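import Cfsg.Agent.Lib.LieTwisted.Twist.D4Thms
import Cfsg.Agent.Lib.G2Gauss.Product

/-!
Relations, groups of root elements, and the coefficient of the simple root at the centre in type D₄.

The simple roots are 18, 14 (centre), 13, 12; the negative of n is 23 - n.
-/

set_option autoImplicit false
set_option maxRecDepth 100000
set_option linter.unusedSectionVars false

namespace Cfsg.Agent.Lib.D4Gauss

open Cfsg.Lie Cfsg.Agent.Lib.ChevStructure
open Cfsg.Agent.Lib.LieTwisted Cfsg.Agent.Lib.LieTwisted.Twist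
open scoped MatrixGroups Matrix

/-- The table. -/
noncomputable abbrev C : Core chevD4 := D4.C

theorem H : CommOK C := Cert.D4.core.commOK_mild mildD4

/-- The root of index n. -/
def rt (n : Fin 24) : Rt chevD4 := ⟨n.val, n.isLt⟩

theorem rt_rev (n : Fin 24) : (rt n).rev = rt n.rev := rfl

theorem rt_surj (r : Rt chevD4) : ∃ n, r = rt n := ⟨⟨r.val, r.isLt⟩, rfl⟩

theorem rt_inj {m n : Fin 24} : rt m = rt n ↔ m = n :=
  ⟨fun h => Fin.ext (congrArg Fin.val h :), fun h => h ▸ rfl⟩

variable {K : Type*} [Field K]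

/-- The root element. -/
noncomputable def X (n : Fin 24) (t : K) : GL chevD4.Idx K := C.X K (rt n) t

theorem X_add (n : Fin 24) (s t : K) : X n s * X n t = X n (s + t) := C.X_add K _ s t

theorem X_zero (n : Fin 24) : X n (0 : K) = 1 := C.X_zero K _

theorem X_inv (n : Fin 24) (t : K) : (X n t)⁻¹ = X n (-t) := C.X_inv K _ t

theorem X_mem (n : Fin 24) (t : K) : X n t ∈ chevD4.group K := C.X_mem_group _ t

/-- Chevalley's commutator formula for the listed terms. -/
theorem conj_X (r s : Fin 24) (L : List (ℕ × ℤ × ℕ × ℕ))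
    (h : s ≠ r ∧ s ≠ r.rev ∧ chevD4.commTerms r.val s.val = L ∧ ∀ c ∈ L, c.1 < 24) (z u : K) :
    X r z * X s u * X r (-z) = X s u *
      (L.map fun c => X (Fin.ofNat 24 c.1) ((c.2.1 : K) * z ^ c.2.2.1 * u ^ c.2.2.2)).prod := by
  obtain ⟨h1, h2, h3, h4⟩ := h
  have e := H.comm_X (rt r) (rt s) (fun e => h1 (Fin.ext (Fin.ext_iff.1 e :)))
    (fun e => h2 (Fin.ext (Fin.ext_iff.1 e :))) (-z) u
  rw [show (rt r).val = r.val from rfl, show (rt s).val = s.val from rfl, h3] at e
  rw [mul_assoc, X, X, X, e, ← mul_assoc, ← mul_assoc, C.X_add, add_neg_cancel, C.X_zero, one_mul]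
  congr 2
  refine List.map_congr_left fun c hc => ?_
  rw [neg_neg, X, ← C.XN_fin]
  congr 2
  show c.1 = c.1 % 24
  rw [Nat.mod_eq_of_lt (h4 c hc)]

/-- The condition that two root groups commute. -/
def Comm (r s : Fin 24) : Prop := s ≠ r ∧ s ≠ r.rev ∧ chevD4.commTerms r.val s.val = []

instance (r s : Fin 24) : Decidable (Comm r s) := by unfold Comm; infer_instance

theorem comm_X {r s : Fin 24} (h : Comm r s) (z u : K) : Commute (X r z) (X s u) := by
  have e := conj_X r s [] ⟨h.1, h.2.1, h.2.2, by simp⟩ z u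
  simp only [List.map_nil, List.prod_nil, mul_one] at e
  show X r z * X s u = X s u * X r z
  calc X r z * X s u = X r z * X s u * X r (-z) * X r z := by rw [← X_inv]; group
    _ = _ := by rw [e]

/-- The group generated by the root subgroups in a finite set of roots. -/
noncomputable def U (S : Finset (Fin 24)) (K : Type*) [Field K] : Subgroup (GL chevD4.Idx K) :=
  C.US K (rt '' ↑S)

theorem X_mem_U {S : Finset (Fin 24)} {n : Fin 24} (h : n ∈ S) (t : K) : X n t ∈ U S K :=
  C.X_mem_US K (Set.mem_image_of_mem rt (Finset.mem_coe.2 h)) t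

theorem U_le {S : Finset (Fin 24)} {M : Subgroup (GL chevD4.Idx K)} (h : ∀ n ∈ S, ∀ t : K, X n t ∈ M) :
    U S K ≤ M := by
  refine (Subgroup.closure_le _).2 ?_
  rintro g ⟨r, ⟨n, hn, rfl⟩, t, rfl⟩
  exact h n hn t

theorem U_mono {S T : Finset (Fin 24)} (h : S ⊆ T) : U S K ≤ U T K :=
  U_le fun _ hn t => X_mem_U (h hn) t

theorem U_le_group (S : Finset (Fin 24)) : U S K ≤ chevD4.group K := U_le fun n _ t => X_mem n t

/-- X_r normalises the group of S. -/
def Stab (r : Fin 24) (S : Finset (Fin 24)) : Prop :=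
  r.rev ∉ S ∧ ∀ s ∈ S, s ≠ r → ∀ c ∈ chevD4.commTerms r.val s.val, c.1 < 24 ∧ Fin.ofNat 24 c.1 ∈ S

instance (r : Fin 24) (S : Finset (Fin 24)) : Decidable (Stab r S) := by unfold Stab; infer_instance

theorem conj_U {r : Fin 24} {S : Finset (Fin 24)} (h : Stab r S) (z : K) {g : GL chevD4.Idx K}
    (hg : g ∈ U S K) : X r z * g * X r (-z) ∈ U S K := by
  have hle : U S K ≤ (U S K).comap (MulAut.conj (X r z)).toMonoidHom := by
    refine U_le fun n hn t => ?_
    show X r z * X n t * (X r z)⁻¹ ∈ U S K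
    rw [X_inv]
    by_cases hnr : n = r
    · subst hnr
      rw [X_add, X_add]
      exact X_mem_U hn _
    rw [conj_X r n _ ⟨hnr, fun e => h.1 (e ▸ hn), rfl, fun c hc => (h.2 n hn hnr c hc).1⟩]
    refine mul_mem (X_mem_U hn t) (list_prod_mem fun g hg => ?_)
    rw [List.mem_map] at hg
    obtain ⟨c, hc, rfl⟩ := hg
    exact X_mem_U (h.2 n hn hnr c hc).2 _
  have := hle hg
  rwa [Subgroup.mem_comap, MulEquiv.coe_toMonoidHom, MulAut.conj_apply, X_inv] at this

theorem conj_U' {r : Fin 24} {S : Finset (Fin 24)} (h : Stab r S) (z : K) {g : GL chevD4.Idx K}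
    (hg : g ∈ U S K) : X r (-z) * g * X r z ∈ U S K := by
  have := conj_U h (-z) hg
  rwa [neg_neg] at this

/-- A torus element. -/
noncomputable def HT (c : Fin chevD4.rank → Kˣ) : GL chevD4.Idx K := C.HT K c

/-- The character of a torus element at root n. -/
noncomputable def chA (n : Fin 24) (c : Fin chevD4.rank → Kˣ) : Kˣ := C.chA c (rt n)

theorem HT_X (n : Fin 24) (c : Fin chevD4.rank → Kˣ) (t : K) :
    HT c * X n t = X n ((chA n c : K) * t) * HT c := by
  rw [HT, X, X, chA, ← C.HT_X_conj]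
  group

theorem X_HT (n : Fin 24) (c : Fin chevD4.rank → Kˣ) (t : K) :
    X n t * HT c = HT c * X n (((chA n c)⁻¹ : Kˣ) * t : K) := by
  rw [HT_X, ← mul_assoc, Units.mul_inv, one_mul]

theorem HT_conj_U (S : Finset (Fin 24)) (c : Fin chevD4.rank → Kˣ) {g : GL chevD4.Idx K} (hg : g ∈ U S K) :
    HT c * g * (HT c)⁻¹ ∈ U S K :=
  (Subgroup.mem_normalizer_iff.1 (C.HT_mem_normalizer K _ _) g).1 hg

theorem HT_inv (c : Fin chevD4.rank → Kˣ) : (HT c)⁻¹ = HT c⁻¹ := C.HT_inv K c

theorem HT_mul (c d : Fin chevD4.rank → Kˣ) : HT c * HT d = HT (c * d) := C.HT_mul K c d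

theorem HT_conj_U' (S : Finset (Fin 24)) (c : Fin chevD4.rank → Kˣ) {g : GL chevD4.Idx K} (hg : g ∈ U S K) :
    (HT c)⁻¹ * g * HT c ∈ U S K := by
  have := HT_conj_U S c⁻¹ hg
  rwa [← HT_inv, inv_inv] at this

/-! ### Finite sets of roots -/

/-- All positive roots. -/
def Pos : Finset (Fin 24) := {12, 13, 14, 15, 16, 17, 18, 19, 20, 21, 22, 23}
/-- The radical for the central node. -/
def Qb : Finset (Fin 24) := {12, 13, 15, 16, 17, 18, 19, 20, 21, 22, 23}
/-- The opposite radical. -/
def Qn : Finset (Fin 24) := {0, 1, 2, 3, 4, 5, 6, 7, 8, 10, 11}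
/-- The radical for the outer nodes. -/
def Qa : Finset (Fin 24) := {14, 15, 16, 17, 19, 20, 21, 22, 23}
/-- Roots of level at least two in Qa. -/
def S8 : Finset (Fin 24) := {15, 16, 17, 19, 20, 21, 22, 23}
/-- Roots of level at least three in Qa. -/
def S9 : Finset (Fin 24) := {17, 20, 21, 22, 23}

theorem Pos_eq : rt '' (↑Pos : Set (Fin 24)) = C.Pos := by
  have key : ∀ n : Fin 24, n ∈ Pos ↔ 24 ≤ 2 * n.val := by decide
  ext r
  obtain ⟨n, rfl⟩ := rt_surj r
  constructor
  · rintro ⟨m, hm, e⟩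
    rw [← e]; exact (key m).1 hm
  · intro h
    exact ⟨n, (key n).2 h, rfl⟩

theorem U_pos : U Pos K = C.US K C.Pos := by rw [U, Pos_eq]

/-! ### Splitting off one root -/

theorem exists_split (r : Fin 24) {S T' : Finset (Fin 24)} (h : Stab r S) (hT : T' = insert r S)
    {g : GL chevD4.Idx K} (hg : g ∈ U T' K) : ∃ t : K, ∃ q ∈ U S K, g = X r t * q := by
  subst hT
  let M : Subgroup (GL chevD4.Idx K) :=
    { carrier := {g | ∃ t : K, ∃ q ∈ U S K, g = X r t * q}
      one_mem' := ⟨0, 1, one_mem _, by rw [X_zero, one_mul]⟩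
      mul_mem' := by
        rintro a b ⟨t, q, hq, rfl⟩ ⟨t', q', hq', rfl⟩
        refine ⟨t + t', X r (-t') * q * X r t' * q', mul_mem (conj_U' h t' hq) hq', ?_⟩
        rw [← X_add, ← X_inv]; group
      inv_mem' := by
        rintro a ⟨t, q, hq, rfl⟩
        refine ⟨-t, X r t * q⁻¹ * X r (-t), conj_U h t (inv_mem hq), ?_⟩
        rw [← X_inv]; group }
  refine (U_le (M := M) ?_) hg
  intro n hn t
  rcases Finset.mem_insert.1 hn with rfl | hn
  · exact ⟨t, 1, one_mem _, by rw [mul_one]⟩
  · exact ⟨0, X n t, X_mem_U hn t, by rw [X_zero, one_mul]⟩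

theorem wordX_cons (k : Rt chevD4) (L : List (Rt chevD4)) (t : Rt chevD4 → K) :
    C.wordX K (k :: L) t = C.X K k (t k) * C.wordX K L t := by
  simp [Core.wordX]

theorem wordX_off {r : Rt chevD4} : ∀ {L : List (Rt chevD4)} {t : Rt chevD4 → K},
    r ∉ L → (∀ k ∈ L, k ≠ r → t k = 0) → C.wordX K L t = 1
  | [], _, _, _ => by simp [Core.wordX]
  | k :: L, t, hr, h => by
    have hk : k ≠ r := fun e => hr (e ▸ List.mem_cons_self ..)
    rw [wordX_cons, h k (List.mem_cons_self ..) hk, C.X_zero, one_mul,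
      wordX_off (r := r) (fun hm => hr (List.mem_cons_of_mem _ hm)) (fun a ha => h a (List.mem_cons_of_mem _ ha))]

theorem wordX_single {r : Rt chevD4} {s : K} : ∀ {L : List (Rt chevD4)}, L.Nodup → r ∈ L →
    C.wordX K L (fun k => if k = r then s else 0) = C.X K r s
  | k :: L, hnd, hr => by
    obtain ⟨hk, hnd'⟩ := List.nodup_cons.1 hnd
    rw [wordX_cons]
    by_cases hkr : k = r
    · subst hkr
      rw [if_pos rfl, wordX_off hk (fun a _ ha => if_neg ha), mul_one]
    · rw [if_neg hkr, C.X_zero, one_mul, wordX_single hnd' (List.mem_of_ne_of_mem (Ne.symm hkr) hr)]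

/-- Each root normalises the group of the later ones. -/
def Chain : List (Fin 24) → Prop
  | [] => True
  | k :: L => Stab k L.toFinset ∧ Chain L

instance decChain : ∀ L, Decidable (Chain L)
  | [] => isTrue trivial
  | k :: L =>
    haveI := decChain L
    inferInstanceAs (Decidable (Stab k L.toFinset ∧ Chain L))

theorem exists_word : ∀ {L : List (Fin 24)}, L.Nodup → Chain L → ∀ {g : GL chevD4.Idx K}, g ∈ U L.toFinset K →
    ∃ t : Rt chevD4 → K, g = C.wordX K (L.map rt) t
  | [], _, _, g, hg => by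
    refine ⟨0, ?_⟩
    have : g ∈ (⊥ : Subgroup (GL chevD4.Idx K)) :=
      (U_le (S := ([] : List (Fin 24)).toFinset) (M := ⊥) fun n hn => absurd hn (by simp)) hg
    simpa [Core.wordX] using Subgroup.mem_bot.1 this
  | k :: L, hnd, hch, g, hg => by
    obtain ⟨hk, hnd'⟩ := List.nodup_cons.1 hnd
    obtain ⟨a, q, hq, rfl⟩ := exists_split k (S := L.toFinset) hch.1 List.toFinset_cons hg
    obtain ⟨t, rfl⟩ := exists_word hnd' hch.2 hq
    refine ⟨Function.update t (rt k) a, ?_⟩
    simp only [Core.wordX, List.map_cons, List.prod_cons, Function.update_self, X]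
    congr 1
    refine congrArg List.prod (List.map_congr_left fun r hr => ?_)
    rw [Function.update_of_ne]
    rintro rfl
    rw [List.mem_map] at hr
    obtain ⟨m, hm, e⟩ := hr
    exact hk (rt_inj.1 e ▸ hm)

theorem wordX_filter {r : Rt chevD4} {t : Rt chevD4 → K} (h : t r = 0) : ∀ L : List (Rt chevD4),
    C.wordX K L t = C.wordX K (L.filter (· ≠ r)) t
  | [] => rfl
  | k :: L => by
    by_cases hk : k = r
    · subst hk
      rw [wordX_cons, h, C.X_zero, one_mul, wordX_filter h L]
      simp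
    · rw [List.filter_cons_of_pos (by simpa using hk), wordX_cons, wordX_cons, wordX_filter h L]

theorem wordX_congr {L : List (Rt chevD4)} {t t' : Rt chevD4 → K} (h : ∀ r ∈ L, t r = t' r) :
    C.wordX K L t = C.wordX K L t' :=
  congrArg List.prod (List.map_congr_left fun r hr => by rw [h r hr])

/-- The roots of a set in increasing order. -/
def posList (S : Finset (Fin 24)) : List (Fin 24) := (List.finRange 24).filter (· ∈ S)

theorem posList_toFinset (S : Finset (Fin 24)) : (posList S).toFinset = S := by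
  ext n; simp [posList]

theorem posList_nodup (S : Finset (Fin 24)) : (posList S).Nodup := (List.nodup_finRange 24).filter _

theorem posList_sorted (S : Finset (Fin 24)) : ((posList S).map rt).Pairwise (· < ·) := by
  rw [List.pairwise_map]
  exact (List.pairwise_lt_finRange 24).filter _

theorem posList_pos {S : Finset (Fin 24)} (hS : S ⊆ Pos) : ∀ r ∈ (posList S).map rt, r ∈ C.Pos := by
  intro r hr
  rw [List.mem_map] at hr
  obtain ⟨n, hn, rfl⟩ := hr
  rw [← Pos_eq]
  exact ⟨n, Finset.mem_coe.2 (hS (by simpa [posList] using hn)), rfl⟩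

/-- The side conditions for a coefficient of r modulo the group of S. -/
def Free (r : Fin 24) (S : Finset (Fin 24)) : Prop :=
  r ∉ S ∧ insert r S ⊆ Pos ∧ Chain (posList S)

instance (r : Fin 24) (S : Finset (Fin 24)) : Decidable (Free r S) := by unfold Free; infer_instance

/-- A root element lying in a group of roots not involving it is trivial. -/
theorem coef_zero {r : Fin 24} {S : Finset (Fin 24)} (hf : Free r S) {t : K} (h : X r t ∈ U S K) : t = 0 := by
  classical
  obtain ⟨hr, hP, hch⟩ := hf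
  obtain ⟨f, hf⟩ := exists_word (posList_nodup S) hch (by rwa [posList_toFinset])
  set L := (posList (insert r S)).map rt with hL
  have hmem : rt r ∈ L := List.mem_map.2 ⟨r, by simp [posList], rfl⟩
  have hnd : L.Nodup := (posList_nodup _).map fun a b e => rt_inj.1 e
  have hfl : L.filter (· ≠ rt r) = (posList S).map rt := by
    rw [hL, List.filter_map, posList, posList, List.filter_filter]
    congr 1
    refine List.filter_congr fun n _ => ?_
    rcases eq_or_ne n r with rfl | hn
    · simp [hr]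
    · simp [hn, rt_inj]
  set f' := Function.update f (rt r) 0
  have e1 : C.wordX K L (fun k => if k = rt r then t else 0) = C.wordX K L f' := by
    rw [wordX_single hnd hmem, wordX_filter (t := f') (r := rt r) (Function.update_self ..), hfl]
    refine hf.trans (wordX_congr fun k hk => ?_)
    simp only [f']
    rw [Function.update_of_ne]
    intro e
    rw [List.mem_map] at hk
    obtain ⟨n, hn, rfl⟩ := hk
    rw [rt_inj.1 e] at hn
    exact hr (by simpa [posList] using hn)
  have := C.wordX_unique K (posList_sorted _) (posList_pos hP) e1 (rt r) hmem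
  simpa [f'] using this

theorem coef_unique {r : Fin 24} {S : Finset (Fin 24)} (hf : Free r S) {t t' : K} {a a' : GL chevD4.Idx K}
    (ha : a ∈ U S K) (ha' : a' ∈ U S K) (h : X r t * a = X r t' * a') : t = t' := by
  refine sub_eq_zero.1 (coef_zero hf ?_)
  have e : X r (t - t') = a' * a⁻¹ := by
    rw [show t - t' = -t' + t by ring, ← X_add, ← X_inv, inv_mul_eq_iff_eq_mul, ← mul_assoc, ← h,
      mul_inv_cancel_right]
  rw [e]
  exact mul_mem ha' (inv_mem ha)

/-! ### The coefficient of the central simple root -/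

open scoped Classical in
/-- The coefficient of the root 14. -/
noncomputable def kap (g : GL chevD4.Idx K) : K :=
  if h : ∃ t : K, ∃ q ∈ U Qb K, g = X 14 t * q then h.choose else 0

theorem free14 : Free 14 Qb := by decide +kernel

theorem kap_eq {t : K} {q : GL chevD4.Idx K} (hq : q ∈ U Qb K) : kap (X 14 t * q) = t := by
  have h : ∃ t' : K, ∃ q' ∈ U Qb K, X 14 t * q = X 14 t' * q' := ⟨t, q, hq, rfl⟩
  rw [kap, dif_pos h]
  obtain ⟨q', hq', e⟩ := h.choose_spec
  exact (coef_unique free14 hq hq' e).symm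

theorem exists_split_b {u : GL chevD4.Idx K} (hu : u ∈ U Pos K) : ∃ q ∈ U Qb K, u = X 14 (kap u) * q := by
  obtain ⟨t, q, hq, rfl⟩ := exists_split 14 (S := Qb) (T' := Pos) (by decide +kernel) (by decide) hu
  exact ⟨q, hq, by rw [kap_eq hq]⟩

theorem kap_mul {g h : GL chevD4.Idx K} (hg : g ∈ U Pos K) (hh : h ∈ U Pos K) :
    kap (g * h) = kap g + kap h := by
  obtain ⟨a, ha, ea⟩ := exists_split_b hg
  obtain ⟨b, hb, eb⟩ := exists_split_b hh
  have e : g * h = X 14 (kap g + kap h) * (X 14 (-kap h) * a * X 14 (kap h) * b) := by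
    conv_lhs => rw [ea, eb]
    rw [← X_add, ← X_inv]; group
  rw [e, kap_eq (mul_mem (conj_U' (by decide +kernel) (kap h) ha) hb)]

theorem kap_zero {S : Finset (Fin 24)} (hS : S ⊆ Qb) {g : GL chevD4.Idx K} (hg : g ∈ U S K) : kap g = 0 := by
  have := kap_eq (t := 0) (U_mono hS hg)
  rwa [X_zero, one_mul] at this

theorem kap_one : kap (1 : GL chevD4.Idx K) = 0 := kap_zero (subset_refl Qb) (one_mem _)

theorem kap_inv {g : GL chevD4.Idx K} (hg : g ∈ U Pos K) : kap g⁻¹ = - kap g := by
  have := kap_mul (inv_mem hg) hg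
  rw [inv_mul_cancel, kap_one] at this
  exact eq_neg_of_add_eq_zero_left this.symm

theorem kap_X (n : Fin 24) (hn : n ∈ Pos) (t : K) : kap (X n t) = if n = 14 then t else 0 := by
  split_ifs with h
  · subst h
    simpa using kap_eq (t := t) (one_mem (U Qb K))
  · have key : ∀ n : Fin 24, n ∈ Pos → n ≠ 14 → n ∈ Qb := by decide
    exact kap_zero (subset_refl Qb) (X_mem_U (key n hn h) t)

theorem mem_Qb_of_kap {u : GL chevD4.Idx K} (hu : u ∈ U Pos K) (h : kap u = 0) : u ∈ U Qb K := by
  obtain ⟨q, hq, e⟩ := exists_split_b hu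
  rw [e, h, X_zero, one_mul]
  exact hq

theorem kap_HT_conj (c : Fin chevD4.rank → Kˣ) {w : GL chevD4.Idx K} (hw : w ∈ U Pos K) :
    kap ((HT c)⁻¹ * w * HT c) = (((chA 14 c)⁻¹ : Kˣ) : K) * kap w := by
  obtain ⟨q, hq, e⟩ := exists_split_b hw
  have : (HT c)⁻¹ * w * HT c = X 14 ((((chA 14 c)⁻¹ : Kˣ) : K) * kap w) * ((HT c)⁻¹ * q * HT c) := by
    conv_lhs => rw [e]
    rw [show (HT c)⁻¹ * (X 14 (kap w) * q) * HT c =
      (HT c)⁻¹ * X 14 (kap w) * HT c * ((HT c)⁻¹ * q * HT c) by group, mul_assoc (HT c)⁻¹, X_HT,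
      inv_mul_cancel_left]
  rw [this, kap_eq (HT_conj_U' Qb c hq)]

end Cfsg.Agent.Lib.D4Gauss
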