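import Cfsg.Agent.Lib.D4Gauss.Kap
import Cfsg.Agent.Lib.PSp4Class.TwoByTwo

/-!
Elements of ³D₄(q) that are conjugate to v φ(A) q with v in the opposite radical, q in the radical and
A ∈ SL₂(q) either 1 or non-scalar of trace different from 2: the Borel group and its close relatives.
-/

set_option autoImplicit false
set_option maxRecDepth 100000
set_option linter.unusedSectionVars false

namespace Cfsg.Agent.Lib.D4Gauss

open Cfsg.Lie Cfsg.Agent.Lib.ChevStructure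
open Cfsg.Agent.Lib.LieTwisted Cfsg.Agent.Lib.LieTwisted.Twist
open Cfsg.Agent.Lib.PSp4Class (NonScalar)
open scoped MatrixGroups Matrix

namespace Env

variable {K : Type*} [Field K] [Fintype K] (Δ : Env K)

/-- Admissible middle parts. -/
def Adm (A : Matrix.SpecialLinearGroup (Fin 2) Δ.E) : Prop := A = 1 ∨ (NonScalar A.1 ∧ A.1.trace ≠ 2)

/-- The target. -/
def Good (g : GL chevD4.Idx K) : Prop :=
  ∃ k ∈ Δ.W, ∃ v ∈ Δ.V Qn, ∃ q ∈ Δ.V Qb, ∃ A, Δ.Adm A ∧ k * g * k⁻¹ = v * Δ.phiE A * q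

variable {Δ}

theorem Good.of_conj' {g g' k : GL chevD4.Idx K} (hk : k ∈ Δ.W) (e : k * g * k⁻¹ = g')
    (h : Δ.Good g') : Δ.Good g := by
  obtain ⟨k', hk', v, hv, q, hq, A, hA, e'⟩ := h
  exact ⟨k' * k, Δ.W.mul_mem hk' hk, v, hv, q, hq, A, hA, by rw [← e', ← e]; group⟩

variable (Δ)

theorem good_Qb {g k : GL chevD4.Idx K} (hk : k ∈ Δ.W) (h : k * g * k⁻¹ ∈ Δ.V Qb) : Δ.Good g :=
  ⟨k, hk, 1, one_mem _, _, h, 1, Or.inl rfl, by rw [map_one, one_mul, one_mul]⟩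

theorem E_ne_two : (1 : Δ.E) ≠ 2 := fun h => zero_ne_one (α := Δ.E) (by linear_combination h)

/-- A middle part which is nearly in the right shape. -/
theorem good_of_middle (r : Δ.E) (y : (Δ.E)ˣ) : ∃ κ : Δ.E, ∀ {g k v u u' : GL chevD4.Idx K}, k ∈ Δ.W →
    v ∈ Δ.V Qn → u ∈ Δ.V Pos → u' ∈ Δ.V Pos → kap u + kap u' = κ →
      k * g * k⁻¹ = v * u * X 9 (r : K) * Δ.T 1 y * u' → Δ.Good g := by
  obtain ⟨κ, hκ⟩ : ∃ κ : Δ.E, ∀ a b : Δ.E, a + b = κ → Δ.Adm (slU a * (slL r * slH y * slU b)) := by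
    have hy0 : (y : Δ.E) ≠ 0 := y.ne_zero
    have hv : ∀ a b : Δ.E, (slU a * (slL r * slH y * slU b)).1 =
        !![(1 + a * r) * y, (1 + a * r) * y * b + a * (y : Δ.E)⁻¹; r * y, r * y * b + (y : Δ.E)⁻¹] := by
      intro a b
      simp only [Matrix.SpecialLinearGroup.coe_mul, slU_val, slL_val, slH_val, Matrix.mul_fin_two,
        Units.val_inv_eq_inv_val]
      ext i j
      fin_cases i <;> fin_cases j <;> simp <;> ring
    by_cases hr : r = 0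
    · subst hr
      by_cases hy : y = 1
      · refine ⟨0, fun a b hab => Or.inl (Subtype.ext ?_)⟩
        rw [hv, hy, Matrix.SpecialLinearGroup.coe_one, Matrix.one_fin_two]
        simp [add_comm b a, hab]
      · refine ⟨1, fun a b hab => Or.inr ⟨?_, ?_⟩⟩
        · rw [hv]
          by_cases h2 : (y : Δ.E) = (y : Δ.E)⁻¹
          · refine Or.inl ?_
            simp only [mul_zero, add_zero, one_mul, ← h2, Matrix.of_apply, Matrix.cons_val_zero, Matrix.cons_val_one]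
            rw [mul_comm a, ← mul_add, add_comm b a, hab, mul_one]
            exact hy0
          · exact Or.inr (Or.inr (by simpa using h2))
        · rw [hv, Matrix.trace_fin_two_of]
          intro e
          simp only [mul_zero, add_zero, one_mul, zero_mul, zero_add] at e
          field_simp at e
          exact hy (Units.ext (sub_eq_zero.1 (mul_self_eq_zero.1
            (show ((y : Δ.E) - 1) * ((y : Δ.E) - 1) = 0 by linear_combination e))))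
    · refine ⟨(1 - y - (y : Δ.E)⁻¹) / (r * y), fun a b hab => Or.inr ⟨Or.inr (Or.inl ?_), ?_⟩⟩
      · rw [hv]; simpa using mul_ne_zero hr hy0
      · rw [hv, Matrix.trace_fin_two_of]
        have e : (1 + a * r) * (y : Δ.E) + (r * y * b + (y : Δ.E)⁻¹) = 1 := by
          rw [eq_div_iff (mul_ne_zero hr hy0)] at hab
          linear_combination hab
        rw [e]
        exact Δ.E_ne_two
  refine ⟨κ, fun {g k v u u'} hk hv hu hu' hsum e => ?_⟩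
  obtain ⟨hau, qa, hqa, ea⟩ := Δ.split_b hu
  obtain ⟨hau', qb, hqb, eb⟩ := Δ.split_b hu'
  set a : Δ.E := ⟨kap u, hau⟩
  set b : Δ.E := ⟨kap u', hau'⟩
  set L := slL r * slH y * slU b
  refine ⟨k, hk, v, hv, (Δ.phiE L)⁻¹ * qa * Δ.phiE L * qb, mul_mem ?_ hqb, slU a * L, hκ a b (Subtype.ext hsum), ?_⟩
  · have := Δ.phiE_conj_V (S := Qb) (by decide +kernel) (by decide +kernel) L⁻¹ hqa
    rwa [map_inv, inv_inv] at this
  · rw [e, ea, eb, map_mul, phiE_U]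
    have hL : Δ.phiE L = X 9 (r : K) * Δ.T 1 y * X 14 (kap u') := by
      simp only [L, map_mul, phiE_L, phiE_H, phiE_U]; rfl
    rw [show ((a : Δ.E) : K) = kap u from rfl, hL]
    group

theorem χ9 (x : Kˣ) : ((Δ.χ 9 x 1 : Kˣ) : K) = Δ.N x := by
  rw [Δ.χ_eq 9 (v4 1 (-2) 1 1) (by decide +kernel)]
  simp [ι_val, N, φu_val]

theorem Y7_X9 (t r : K) : Δ.Y7 t * X 9 r = X 9 r * Δ.Y7 t := by
  rw [Δ.Y7_eq]
  exact (((comm_X (r := 18) (s := 9) (by decide +kernel) _ _).mul_left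
    (comm_X (r := 13) (s := 9) (by decide +kernel) _ _)).mul_left
    (comm_X (r := 12) (s := 9) (by decide +kernel) _ _)).eq

theorem Y7_T (x : Kˣ) (y : (Δ.E)ˣ) (t : K) :
    Δ.Y7 t * Δ.T x y = Δ.T x y * Δ.Y7 (((Δ.χ 18 x y)⁻¹ : Kˣ) * t : K) := Δ.Orb_T 18 x y t

theorem Y7_mem_V (t : K) : Δ.Y7 t ∈ Δ.V Pos :=
  Δ.Orb_mem_V (by decide +kernel) (by decide) (by decide) (by decide) t

theorem Y4_mem_V (t : K) : Δ.Y4 t ∈ Δ.V Qn :=
  Δ.Orb_mem_V (by decide +kernel) (by decide) (by decide) (by decide) t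

/-- Shifting the first torus coordinate. -/
theorem shift {s : K} (hs : s ≠ 0) (r : Δ.E) (x : Kˣ) (y : (Δ.E)ˣ) :
    ∃ t : K, ∃ s' : K, s' ≠ 0 ∧ ∃ r' : Δ.E, ∃ t' : K,
      Δ.Y7 t * (Δ.Y4 s * X 9 (r : K) * Δ.T x y) = Δ.Y4 s' * X 9 (r' : K) * Δ.T 1 y * Δ.Y7 t' := by
  set f : Kˣ := x⁻¹ with hf
  set t : K := ((f : K) - 1) / s with ht
  have hft : (f : K) = 1 + t * s := by rw [ht]; field_simp; ring
  refine ⟨t, _, mul_ne_zero (f⁻¹).ne_zero hs, (Δ.nmE f : Δ.E) * r,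
    (((Δ.χ 18 x y)⁻¹ : Kˣ) : K) * (((f⁻¹ : Kˣ) : K) * t), ?_⟩
  calc Δ.Y7 t * (Δ.Y4 s * X 9 (r : K) * Δ.T x y)
      = Δ.Y7 t * Δ.Y4 s * X 9 (r : K) * Δ.T x y := by simp only [mul_assoc]
    _ = Δ.Y4 (((f⁻¹ : Kˣ) : K) * s) * Δ.T f 1 * (Δ.Y7 (((f⁻¹ : Kˣ) : K) * t) * X 9 (r : K)) * Δ.T x y := by
        rw [Δ.Y7_Y4 t s f hft]; simp only [mul_assoc]
    _ = Δ.Y4 (((f⁻¹ : Kˣ) : K) * s) * (Δ.T f 1 * X 9 (r : K)) * (Δ.Y7 (((f⁻¹ : Kˣ) : K) * t) * Δ.T x y) := by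
        rw [Δ.Y7_X9]; simp only [mul_assoc]
    _ = Δ.Y4 (((f⁻¹ : Kˣ) : K) * s) * X 9 (Δ.N f * (r : K)) * (Δ.T f 1 * Δ.T x y) *
        Δ.Y7 ((((Δ.χ 18 x y)⁻¹ : Kˣ) : K) * (((f⁻¹ : Kˣ) : K) * t)) := by
        rw [Δ.T_X, χ9, Δ.Y7_T]; simp only [mul_assoc]
    _ = _ := by rw [T_mul, hf, inv_mul_cancel, one_mul]; rfl

/-- Y4(s) X9(r) T u with s ≠ 0. -/
theorem good_AC {s : K} (hs : s ≠ 0) (r : Δ.E) (x : Kˣ) (y : (Δ.E)ˣ) {u : GL chevD4.Idx K} (hu : u ∈ Δ.V Pos) :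
    Δ.Good (Δ.Y4 s * X 9 (r : K) * Δ.T x y * u) := by
  obtain ⟨t, s', hs', r', t', e⟩ := Δ.shift hs r x y
  set u₁ := Δ.Y7 t' * u * Δ.Y7 (-t)
  have hu₁ : u₁ ∈ Δ.V Pos := mul_mem (mul_mem (Δ.Y7_mem_V _) hu) (Δ.Y7_mem_V _)
  refine Good.of_conj' (Δ.Y7_mem t) (g' := Δ.Y4 s' * X 9 (r' : K) * Δ.T 1 y * u₁) ?_ ?_
  · rw [Y7_inv, ← mul_assoc, e]; simp only [u₁, mul_assoc]
  obtain ⟨κ, hκ⟩ := Δ.good_of_middle r' y
  set z : K := ((κ : K) - kap u₁) / Δ.N s'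
  have hz : z ∈ Δ.E := div_mem (sub_mem κ.2 (Δ.split_b hu₁).1) (Δ.N_mem s')
  set w := Δ.Y4 (-s') * X 22 z * Δ.Y4 s' with hw
  obtain ⟨hwU, hkw⟩ := Δ.kap_Y4_X22 s' z
  have h22 : ∀ z ∈ Δ.E, X 22 z ∈ Δ.V Pos := fun z hz => Δ.X_fix_mem_V (by decide) (by decide) hz
  have hwV : w ∈ Δ.V Pos :=
    ⟨hwU, Δ.W.mul_mem (Δ.W.mul_mem (Δ.Y4_mem _) (Δ.V_W (h22 z hz))) (Δ.Y4_mem _)⟩
  refine hκ (k := X 22 z) (v := Δ.Y4 s') (u := w) (u' := u₁ * X 22 (-z)) (Δ.V_W (h22 z hz)) (Δ.Y4_mem_V s')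
    hwV (mul_mem hu₁ (h22 _ (neg_mem hz))) ?_ ?_
  · rw [hkw, kap_mul (Δ.V_U hu₁) (X_mem_U (by decide) _), kap_X 22 (by decide), if_neg (by decide), add_zero]
    simp only [z]
    rw [mul_div_cancel₀ _ (Δ.N_ne hs'), sub_add_cancel]
  · rw [hw, X_inv, ← Y4_inv, ← X_inv]
    group

/-- Elements of the radical of the three outer nodes. -/
theorem good_Q {g : GL chevD4.Idx K} (hg : g ∈ Δ.V Qa) : Δ.Good g := by
  obtain ⟨β, hβE, q, hq, rfl⟩ := Δ.fixed_split (n := 14) (S := S8) (T' := Qa) (by decide) (by decide +kernel)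
    (by decide +kernel) (by decide) (by decide) hg
  rcases eq_or_ne β 0 with rfl | hβ
  · refine Δ.good_Qb (one_mem _) ?_
    rw [X_zero, one_mul, one_mul, inv_one, mul_one]
    exact Δ.V_mono (by decide) hq
  obtain ⟨γ0, q9, hq9, rfl⟩ := Δ.orbit_split (a := 19) (S := S9) (T' := S8) (by decide +kernel) (by decide) hq
  -- remove the coefficient of a+b
  set t := γ0 / β
  have hP : Env.P19 β γ0 (X 14 β * (Δ.Orb 19 γ0 * q9)) := by
    refine ⟨X 16 (-Δ.φ γ0) * X 15 (-Δ.φ (Δ.φ γ0)) * q9, ?_, ?_⟩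
    · exact mul_mem (mul_mem (X_mem_U (by decide) _) (X_mem_U (by decide) _)) (U_mono (by decide) (Δ.V_U hq9))
    · rw [Δ.Orb19_eq]; simp only [mul_assoc]
  obtain ⟨r, hr, er⟩ := hP.Y7_conj Δ t
  have ht : γ0 - t * β = 0 := by simp only [t]; rw [div_mul_cancel₀ _ hβ, sub_self]
  rw [ht, X_zero, mul_one] at er
  refine Good.of_conj' (Δ.Y7_mem t) er ?_
  have hrW : r ∈ Δ.W := by
    have h14 : X 14 β ∈ Δ.W := Δ.X_fix_mem (by decide) hβE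
    have h : X 14 β * r ∈ Δ.W := er ▸ Δ.W.mul_mem (Δ.W.mul_mem (Δ.Y7_mem t) (Δ.V_W hg)) (Δ.W.inv_mem (Δ.Y7_mem t))
    simpa using Δ.W.mul_mem (Δ.W.inv_mem h14) h
  obtain ⟨γ', r9, hr9, er9⟩ := Δ.orbit_split (a := 19) (S := S9) (T' := S8) (by decide +kernel) (by decide)
    (g := r) ⟨U_mono (by decide) hr, hrW⟩
  have hγ' : γ' = 0 := by
    refine coef_unique (r := 19) (S := R19) (by decide +kernel)
      (a := X 16 (-Δ.φ γ') * X 15 (-Δ.φ (Δ.φ γ')) * r9) (a' := r) ?_ hr ?_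
    · exact mul_mem (mul_mem (X_mem_U (by decide) _) (X_mem_U (by decide) _)) (U_mono (by decide) (Δ.V_U hr9))
    · rw [X_zero, one_mul]
      conv_rhs => rw [er9, Δ.Orb19_eq]
      simp only [mul_assoc]
  rw [hγ', Orb_zero, one_mul] at er9
  subst er9
  clear_value t
  clear hq9 hq hg hP er ht hrW hr
  obtain ⟨γ, q', hq', rfl⟩ := Δ.orbit_split (a := 21) (S := {22, 23}) (T' := S9) (by decide +kernel) (by decide) hr9
  obtain ⟨δ, hδE, q'', hq'', rfl⟩ := Δ.fixed_split (n := 22) (S := {23}) (T' := {22, 23}) (by decide)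
    (by decide +kernel) (by decide +kernel) (by decide) (by decide) hq'
  obtain ⟨ε, hεE, q0, hq0, rfl⟩ := Δ.fixed_split (n := 23) (S := ∅) (T' := {23}) (by decide)
    (by decide +kernel) (by decide +kernel) (by decide) (by decide) hq''
  have hq01 : q0 = 1 :=
    Subgroup.mem_bot.1 ((U_le (M := ⊥) (fun n hn => absurd hn (Finset.notMem_empty n))) (Δ.V_U hq0))
  subst hq01
  -- remove the coefficient of the highest root
  set z := ε / β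
  refine Good.of_conj' (Δ.X_fix_mem (n := 22) (by decide) (t := z) (div_mem hεE hβE))
    (g' := X 14 β * (Δ.Orb 21 γ * X 22 δ)) ?_ ?_
  · rw [X_inv, ← cj_apply, Δ.Orb21_eq]
    simp only [map_mul, map_one, mul_one, cj_term (show Term 22 14 23 (-1) by decide +kernel),
      cj_comm (r := 22) (s := 21) (by decide +kernel), cj_comm (r := 22) (s := 17) (by decide +kernel),
      cj_comm (r := 22) (s := 20) (by decide +kernel), cj_comm (r := 22) (s := 23) (by decide +kernel)]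
    rw [show cj 22 z (X 22 δ) = X 22 δ by
      rw [cj_apply, X_add, X_add, show z + δ + -z = δ by ring]]
    have c1 := comm_X (K := K) (r := 23) (s := 21) (by decide +kernel)
    have c2 := comm_X (K := K) (r := 23) (s := 17) (by decide +kernel)
    have c3 := comm_X (K := K) (r := 23) (s := 20) (by decide +kernel)
    have c4 := comm_X (K := K) (r := 23) (s := 22) (by decide +kernel)
    set a := ((-1 : ℤ) : K) * z * β with ha
    have hz : a + ε = 0 := by rw [ha]; simp only [z]; push_cast; field_simp; ring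
    calc X 14 β * X 23 a * (X 21 γ * X 17 (-Δ.φ γ) * X 20 (Δ.φ (Δ.φ γ)) * (X 22 δ * X 23 ε))
        = X 14 β * (X 23 a * (X 21 γ * X 17 (-Δ.φ γ) * X 20 (Δ.φ (Δ.φ γ)) * X 22 δ)) * X 23 ε := by
          simp only [mul_assoc]
      _ = X 14 β * (X 21 γ * X 17 (-Δ.φ γ) * X 20 (Δ.φ (Δ.φ γ)) * X 22 δ * X 23 a) * X 23 ε := by
          rw [((((c1 a γ).mul_right (c2 a _)).mul_right (c3 a _)).mul_right (c4 a δ)).eq]
      _ = _ := by rw [mul_assoc, mul_assoc _ (X 23 a), X_add, hz, X_zero, mul_one]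
  set w0 := Δ.Orb 21 γ * X 22 δ with hw0
  have hw0V : ∀ S : Finset (Fin 24), 17 ∈ S → 20 ∈ S → 21 ∈ S → 22 ∈ S → w0 ∈ Δ.V S := fun S a b c d =>
    mul_mem (Δ.Orb_mem_V (by decide +kernel) c a b γ) (Δ.X_fix_mem_V (by decide) d hδE)
  rcases eq_or_ne δ 0 with rfl | hδ
  · -- the reflection of the outer nodes moves everything into the radical
    refine Δ.good_Qb Δ.nA_mem (Δ.V_conj (S := {14, 17, 20, 21}) Δ.nA_mem ?_ (acts_conj_U (S := {14, 17, 20, 21}) Δ.acts_nA ?_ ?_))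
    · rw [hw0, X_zero, mul_one]
      exact mul_mem (Δ.X_fix_mem_V (by decide) (by decide) hβE)
        (Δ.Orb_mem_V (by decide +kernel) (by decide) (by decide) (by decide) γ)
    · unfold reflW
      decide +kernel
    · rw [hw0, X_zero, mul_one]
      exact mul_mem (X_mem_U (by decide) _) (Δ.Orb_mem_U (by decide) (by decide) (by decide) γ)
  -- conjugate by X_{-b}(1) and then by the negative orbit
  set b : Δ.E := ⟨β, hβE⟩
  set A0 : Matrix.SpecialLinearGroup (Fin 2) Δ.E := slL 1 * slU b * slL (-1)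
  have hA0 : Δ.phiE A0 = X 9 1 * X 14 β * X 9 (-1) := by
    simp only [A0, map_mul, phiE_L, phiE_U]; rfl
  have h1E : (1 : K) ∈ Δ.E := Δ.E.one_mem
  refine Good.of_conj' (Δ.X_fix_mem (n := 9) (by decide) h1E) (g' := Δ.phiE A0 * w0) ?_ ?_
  · have hc : Commute (X 9 (-1 : K)) w0 := by
      rw [hw0, Δ.Orb21_eq]
      exact (((comm_X (by decide +kernel) _ _).mul_right (comm_X (by decide +kernel) _ _)).mul_right
        (comm_X (by decide +kernel) _ _)).mul_right (comm_X (by decide +kernel) _ _)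
    rw [X_inv, hA0, mul_assoc _ (X 9 (-1)) w0, hc.eq]
    simp only [mul_assoc]
  obtain ⟨s, hs, hκ⟩ : ∃ s : K, s ≠ 0 ∧
      Δ.φ s * Δ.φ (Δ.φ s) * Δ.φ γ + s * Δ.φ (Δ.φ s) * Δ.φ (Δ.φ γ) + s * Δ.φ s * γ + Δ.N s * δ ≠ 0 := by
    obtain ⟨μ, hμ, hμ'⟩ : ∃ μ : K, μ ≠ 0 ∧ δ + Δ.Tr (γ * μ) ≠ 0 := by
      by_contra hall
      push Not at hall
      classical
      obtain ⟨m, hm⟩ : ∃ m : K, m ∉ ({0, -1} : Finset K) := by
        by_contra hno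
        push Not at hno
        have h1 : (Finset.univ : Finset K) ⊆ {0, -1} := fun x _ => hno x
        have h2 := Finset.card_le_card h1
        rw [Finset.card_univ] at h2
        have := Δ.card_K_ge
        have := Finset.card_le_two (a := (0 : K)) (b := -1)
        omega
      simp only [Finset.mem_insert, Finset.mem_singleton, not_or] at hm
      have e1 := hall 1 one_ne_zero
      have e2 := hall m hm.1
      have e3 := hall (1 + m) (fun e => hm.2 (by linear_combination e))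
      apply hδ
      simp only [Tr, map_mul, map_add, map_one] at e1 e2 e3
      linear_combination e1 + e2 - e3
    refine ⟨Δ.φ μ⁻¹, (map_ne_zero Δ.φ).2 (inv_ne_zero hμ), ?_⟩
    have h2 : Δ.φ (Δ.φ (Δ.φ μ⁻¹)) = μ⁻¹ := Δ.φ3 _
    have hN := Δ.N_ne ((map_ne_zero Δ.φ).2 (inv_ne_zero hμ) : Δ.φ μ⁻¹ ≠ 0)
    intro e
    refine hμ' (mul_left_cancel₀ hN ?_)
    rw [mul_zero, ← e, N, Tr, h2]
    simp only [map_mul, Δ.φ3, map_inv₀]
    have n1 : Δ.φ μ ≠ 0 := (map_ne_zero Δ.φ).2 hμ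
    have n2 : Δ.φ (Δ.φ μ) ≠ 0 := (map_ne_zero Δ.φ).2 n1
    field_simp
    ring
  obtain ⟨hwU, hkw⟩ := Δ.kap_Y4_level3 s γ δ
  rw [← hw0] at hwU hkw
  set w := Δ.Y4 s * w0 * Δ.Y4 (-s) with hw
  have hwV : w ∈ Δ.V Pos := ⟨hwU, Δ.W.mul_mem (Δ.W.mul_mem (Δ.Y4_mem _)
    (Δ.V_W (hw0V Pos (by decide) (by decide) (by decide) (by decide)))) (Δ.Y4_mem _)⟩
  obtain ⟨hkE, qw, hqw, ew⟩ := Δ.split_b hwV
  set k : Δ.E := ⟨kap w, hkE⟩
  have hk0 : k ≠ 0 := fun e => hκ (by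
    have : kap w = 0 := congrArg Subtype.val e
    rw [hkw] at this
    linear_combination -this)
  have hb0 : b ≠ 0 := fun e => hβ (congrArg Subtype.val e)
  refine ⟨Δ.Y4 s, Δ.Y4_mem s, Δ.Y4 s * (Δ.phiE A0 * Δ.Y4 (-s) * (Δ.phiE A0)⁻¹),
    mul_mem (Δ.Y4_mem_V s) (Δ.phiE_conj_V (by decide +kernel) (by decide +kernel) _ (Δ.Y4_mem_V _)),
    qw, hqw, A0 * slU k, Or.inr ⟨Or.inr (Or.inl ?_), ?_⟩, ?_⟩
  · simp [A0, Matrix.SpecialLinearGroup.coe_mul, slU_val, slL_val, Matrix.mul_fin_two, hb0]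
  · simp [A0, Matrix.SpecialLinearGroup.coe_mul, slU_val, slL_val, Matrix.mul_fin_two, Matrix.trace_fin_two]
    intro e
    exact mul_ne_zero hb0 hk0 (by linear_combination -e)
  · rw [map_mul Δ.phiE A0, phiE_U, show ((k : Δ.E) : K) = kap w from rfl, Y4_inv]
    calc Δ.Y4 s * (Δ.phiE A0 * w0) * Δ.Y4 (-s)
        = Δ.Y4 s * (Δ.phiE A0 * Δ.Y4 (-s) * (Δ.phiE A0)⁻¹) * Δ.phiE A0 * w := by
          rw [hw, ← Y4_inv]; group
      _ = _ := by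
          conv_lhs => rw [ew]
          simp only [mul_assoc]

theorem χ18 (x : Kˣ) (y : (Δ.E)ˣ) : Δ.χ 18 x y = x * x * (Δ.ι y)⁻¹ := by
  rw [Δ.χ_eq 18 (v4 2 (-1) 0 0) (by decide +kernel)]
  simp [zpow_two, sq]

theorem nA_V (u : GL chevD4.Idx K) (hu : u ∈ Δ.V Qa) : Δ.nA * u * Δ.nA⁻¹ ∈ Δ.V Qa := by
  refine Δ.V_conj Δ.nA_mem hu (acts_conj_U Δ.acts_nA ?_ (Δ.V_U hu))
  unfold reflW
  decide +kernel

theorem nB_V (u : GL chevD4.Idx K) (hu : u ∈ Δ.V Qb) : Δ.nB * u * Δ.nB⁻¹ ∈ Δ.V Qb := by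
  refine Δ.V_conj Δ.nB_mem hu (acts_conj_U Δ.acts_nB ?_ (Δ.V_U hu))
  unfold reflW
  decide +kernel

theorem good_B1 (x : Kˣ) (y : (Δ.E)ˣ) {α : K} (hα : α ≠ 0) {u : GL chevD4.Idx K} (hu : u ∈ Δ.V Qa) :
    Δ.Good (Δ.T x y * Δ.Y7 α * u) := by
  set x' : Kˣ := Δ.ι y * x⁻¹
  set s := (Δ.χ 5 x' y : K) * -α
  have hs : s ≠ 0 := mul_ne_zero (Units.ne_zero _) (neg_ne_zero.2 hα)
  have h := Δ.good_AC hs 0 x' y (Δ.V_mono (S := Qa) (by decide) (Δ.nA_V u hu))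
  rw [show ((0 : Δ.E) : K) = 0 from rfl, X_zero, mul_one] at h
  refine Good.of_conj' Δ.nA_mem ?_ h
  calc Δ.nA * (Δ.T x y * Δ.Y7 α * u) * Δ.nA⁻¹
      = (Δ.nA * Δ.T x y) * Δ.Y7 α * u * Δ.nA⁻¹ := by simp only [mul_assoc]
    _ = Δ.T x' y * (Δ.nA * Δ.Y7 α * Δ.nA⁻¹) * (Δ.nA * u * Δ.nA⁻¹) := by
        rw [Δ.nA_T]; simp only [x', mul_assoc, inv_mul_cancel_left]
    _ = _ := by rw [Δ.nA_Y7, show Δ.Y4 (-α) = Δ.Orb 5 (-α) from rfl, Δ.T_Orb]; rfl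

theorem split_a {u : GL chevD4.Idx K} (hu : u ∈ Δ.V Pos) : ∃ α : K, ∃ q ∈ Δ.V Qa, u = Δ.Y7 α * q :=
  Δ.orbit_split (a := 18) (S := Qa) (T' := Pos) (by decide +kernel) (by decide) hu

theorem good_B2 (x : Kˣ) (y : (Δ.E)ˣ) (h : Δ.χ 18 x y ≠ 1) {u : GL chevD4.Idx K} (hu : u ∈ Δ.V Pos) :
    Δ.Good (Δ.T x y * u) := by
  obtain ⟨α, u₁, hu₁, rfl⟩ := Δ.split_a hu
  rcases ne_or_eq α 0 with hα | rfl
  · rw [← mul_assoc]; exact Δ.good_B1 x y hα hu₁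
  set a : K := (((Δ.χ 18 x y)⁻¹ : Kˣ) : K) - 1
  have ha : a ≠ 0 := fun e => h (inv_eq_one.1 (Units.ext (sub_eq_zero.1 e)))
  have hc : Δ.Y7 1 * u₁ * (Δ.Y7 1)⁻¹ ∈ Δ.V Qa := by
    refine Δ.V_conj (Δ.Y7_mem 1) hu₁ ?_
    rw [Δ.Y7_conj, cj_apply, cj_apply, cj_apply]
    exact conj_U (by decide +kernel) _ (conj_U (by decide +kernel) _ (conj_U (by decide +kernel) _ (Δ.V_U hu₁)))
  refine Good.of_conj' (Δ.Y7_mem 1) (g' := Δ.T x y * Δ.Y7 a * (Δ.Y7 1 * u₁ * (Δ.Y7 1)⁻¹)) ?_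
    (Δ.good_B1 x y ha hc)
  calc Δ.Y7 1 * (Δ.T x y * (Δ.Y7 0 * u₁)) * (Δ.Y7 1)⁻¹
      = (Δ.Y7 1 * Δ.T x y) * u₁ * (Δ.Y7 1)⁻¹ := by
        rw [show Δ.Y7 0 = 1 from Δ.Orb_zero 18, one_mul]; simp only [mul_assoc]
    _ = Δ.T x y * Δ.Y7 (((Δ.χ 18 x y)⁻¹ : Kˣ) : K) * u₁ * (Δ.Y7 1)⁻¹ := by rw [Δ.Y7_T, mul_one]
    _ = Δ.T x y * (Δ.Y7 a * Δ.Y7 1) * u₁ * (Δ.Y7 1)⁻¹ := by rw [Y7_add]; simp [a]
    _ = _ := by group

theorem good_B (x : Kˣ) (y : (Δ.E)ˣ) {u : GL chevD4.Idx K} (hu : u ∈ Δ.V Pos) : Δ.Good (Δ.T x y * u) := by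
  by_cases h : Δ.χ 18 x y = 1
  swap; · exact Δ.good_B2 x y h hu
  obtain ⟨α, u₁, hu₁, rfl⟩ := Δ.split_a hu
  rcases ne_or_eq α 0 with hα | rfl
  · rw [← mul_assoc]; exact Δ.good_B1 x y hα hu₁
  rw [show Δ.Y7 0 = 1 from Δ.Orb_zero 18, one_mul]
  have hy : Δ.ι y = x * x := by
    rw [χ18, mul_inv_eq_one] at h
    exact h.symm
  -- x lies in the fixed field
  have hxE : (x : K) ∈ Δ.E := by
    have e : Δ.φ x * Δ.φ x = (x : K) * x := by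
      have := Δ.φ_E (y : Δ.E)
      rw [← ι_val, hy, Units.val_mul, map_mul] at this
      exact this
    rcases mul_self_eq_mul_self_iff.1 e with e' | e'
    · exact Δ.mem_E.2 e'
    · refine Δ.mem_E.2 ?_
      have h3 := Δ.φ3 (x : K)
      rw [e', map_neg, map_neg, e', map_neg, neg_neg, e'] at h3
      exact e'.trans h3
  set x₀ : (Δ.E)ˣ := Units.mk0 ⟨x, hxE⟩ fun e => x.ne_zero (congrArg Subtype.val e)
  have hx₀ : Δ.ι x₀ = x := Units.ext rfl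
  have hy₀ : y = x₀ * x₀ := Δ.ι_inj (by rw [hy, map_mul, hx₀])
  by_cases hx : x = 1
  · have : x₀ = 1 := Δ.ι_inj (by rw [hx₀, hx, map_one])
    rw [hy₀, this, hx, one_mul, T_one, one_mul]
    exact Δ.good_Q hu₁
  have hN : Δ.nmE x = x₀ * x₀ * x₀ := Δ.ι_inj (Units.ext (by
    rw [ι_val, nmE_val, map_mul, map_mul, hx₀]
    simp [N, Δ.mem_E.1 hxE]))
  have hχ : Δ.χ 14 x y = x := by
    rw [Δ.χ_eq 14 (v4 (-1) 2 (-1) (-1)) (by decide +kernel), hy]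
    refine Units.ext ?_
    simp [zpow_two, φu_val, Δ.mem_E.1 hxE]
    field_simp
  set a : K := (((Δ.χ 14 x y)⁻¹ : Kˣ) : K) - 1 with ha_def
  have ha : a ≠ 0 := by
    rw [ha_def, hχ]
    exact fun e => hx (inv_eq_one.1 (Units.ext (sub_eq_zero.1 e)))
  have hu1P : u₁ ∈ Δ.V Pos := Δ.V_mono (S := Qa) (by decide) hu₁
  have haE : a ∈ Δ.E := by
    rw [ha_def, hχ, Units.val_inv_eq_inv_val]
    exact sub_mem (inv_mem hxE) (one_mem _)
  set t := -(kap u₁) / a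
  have htE : t ∈ Δ.E := div_mem (neg_mem (Δ.split_b hu1P).1) haE
  set c := (((Δ.χ 14 x y)⁻¹ : Kˣ) : K) * t
  have hcE : c ∈ Δ.E := by
    simp only [c, hχ, Units.val_inv_eq_inv_val]
    exact mul_mem (inv_mem hxE) htE
  set q := X 14 c * u₁ * X 14 (-t)
  have h14 : ∀ t ∈ Δ.E, X 14 t ∈ Δ.V Pos := fun t ht => Δ.X_fix_mem_V (by decide) (by decide) ht
  have hqP : q ∈ Δ.V Pos := mul_mem (mul_mem (h14 c hcE) hu1P) (h14 _ (neg_mem htE))
  have hq0 : q ∈ Δ.V Qb := by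
    refine ⟨mem_Qb_of_kap (Δ.V_U hqP) ?_, Δ.V_W hqP⟩
    rw [kap_mul (mul_mem (X_mem_U (by decide) _) (Δ.V_U hu1P)) (X_mem_U (by decide) _),
      kap_mul (X_mem_U (by decide) _) (Δ.V_U hu1P), kap_X 14 (by decide), kap_X 14 (by decide), if_pos rfl,
      if_pos rfl]
    have : t * a = -kap u₁ := div_mul_cancel₀ _ ha
    linear_combination this + t * ha_def
  refine Good.of_conj' (Δ.X_fix_mem (n := 14) (by decide) htE) (g' := Δ.T x y * q) ?_ ?_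
  · rw [X_inv, ← mul_assoc, Δ.X_T]; simp only [q, c, mul_assoc]
  refine Good.of_conj' Δ.nB_mem (g' := Δ.T x (Δ.nmE x * y⁻¹) * (Δ.nB * q * Δ.nB⁻¹)) ?_
    (Δ.good_B2 x _ ?_ (Δ.V_mono (S := Qb) (by decide) (Δ.nB_V q hq0)))
  · rw [← mul_assoc, Δ.nB_T]; group
  · rw [hN, hy₀, mul_inv_rev, show x₀ * x₀ * x₀ * (x₀⁻¹ * x₀⁻¹) = x₀ by group, χ18, hx₀, mul_inv_cancel_right]
    exact hx

end Env

end Cfsg.Agent.Lib.D4Gauss
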