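import Cfsg.Agent.Lib.D4Gauss.Rank

/-!
The triality twisted group inside the Chevalley group of type D₄: orbit elements, orbit coordinates of
fixed unipotent elements, and the fixed subfield.
-/

set_option autoImplicit false
set_option maxRecDepth 100000
set_option linter.unusedSectionVars false

namespace Cfsg.Agent.Lib.D4Gauss

open Cfsg.Lie Cfsg.Agent.Lib.ChevStructure
open Cfsg.Agent.Lib.LieTwisted Cfsg.Agent.Lib.LieTwisted.Twist
open scoped MatrixGroups Matrix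

/-- The permutation of the roots by triality. -/
def pi (n : Fin 24) : Fin 24 :=
  ![0, 1, 6, 2, 7, 10, 3, 8, 4, 9, 11, 5, 18, 12, 14, 19, 15, 20, 13, 16, 21, 17, 22, 23] n

/-- The signs. -/
def eps (n : Fin 24) : ℤ :=
  ![1, 1, -1, 1, -1, 1, -1, 1, -1, 1, 1, 1, 1, 1, 1, -1, 1, -1, 1, -1, 1, -1, 1, 1] n

theorem pi_spec : ∀ n : Fin 24, Frob.rootPerm D4.g (rt n) = rt (pi n) ∧ GraphData.symD4.ε (rt n) = eps n := by
  decide +kernel

/-- The data of ³D₄(q). -/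
structure Env (K : Type*) [Field K] [Fintype K] where
  /-- the size of the fixed field -/
  q : ℕ
  /-- the generator of the Galois group -/
  φ : K ≃+* K
  F : Frob.Facts K q 3 φ
  hq1 : 1 < q
  hK : Fintype.card K = q ^ 3

namespace Env

variable {K : Type*} [Field K] [Fintype K] (Δ : Env K)

/-- The twisted data. -/
noncomputable abbrev O : Orth C K := D4.orth Δ.F Δ.hq1 Δ.hK

/-- The twisted group. -/
noncomputable abbrev W : Subgroup (GL chevD4.Idx K) := Δ.O.tw.W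

/-- The triality automorphism. -/
noncomputable def τ : GL chevD4.Idx K ≃* GL chevD4.Idx K := Δ.O.Θ

theorem φ3 (t : K) : Δ.φ (Δ.φ (Δ.φ t)) = t := Δ.F.pow t

theorem τ_X (n : Fin 24) (t : K) : Δ.τ (X n t) = X (pi n) ((eps n : K) * Δ.φ t) := by
  obtain ⟨h1, h2⟩ := pi_spec n
  rw [τ, X, X, Δ.O.Θ_X, ← h1, ← h2]
  rfl

theorem mem_W {g : GL chevD4.Idx K} : g ∈ Δ.W ↔ g ∈ chevD4.group K ∧ Δ.τ g = g := Δ.O.tw.mem_W_iff

theorem W_le : Δ.W ≤ chevD4.group K := fun _ h => (Δ.mem_W.1 h).1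

theorem τ_eq {g : GL chevD4.Idx K} (h : g ∈ Δ.W) : Δ.τ g = g := (Δ.mem_W.1 h).2

theorem τ_U {S S' : Finset (Fin 24)} (h : ∀ n ∈ S, pi n ∈ S') {g : GL chevD4.Idx K} (hg : g ∈ U S K) :
    Δ.τ g ∈ U S' K := by
  refine (U_le (M := (U S' K).comap Δ.τ.toMonoidHom) fun n hn t => ?_) hg
  show Δ.τ (X n t) ∈ U S' K
  rw [Δ.τ_X]
  exact X_mem_U (h n hn) _

/-- The fixed group of the roots in S. -/
noncomputable def V (S : Finset (Fin 24)) : Subgroup (GL chevD4.Idx K) := U S K ⊓ Δ.W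

theorem V_U {S : Finset (Fin 24)} {g : GL chevD4.Idx K} (h : g ∈ Δ.V S) : g ∈ U S K := h.1

theorem V_W {S : Finset (Fin 24)} {g : GL chevD4.Idx K} (h : g ∈ Δ.V S) : g ∈ Δ.W := h.2

theorem V_mono {S S' : Finset (Fin 24)} (h : S ⊆ S') : Δ.V S ≤ Δ.V S' := inf_le_inf_right _ (U_mono h)

theorem mem_V {S : Finset (Fin 24)} {g : GL chevD4.Idx K} (h : g ∈ U S K) (hf : Δ.τ g = g) : g ∈ Δ.V S :=
  ⟨h, Δ.mem_W.2 ⟨U_le_group _ h, hf⟩⟩

theorem V_conj {S : Finset (Fin 24)} {k g : GL chevD4.Idx K} (hk : k ∈ Δ.W) (hg : g ∈ Δ.V S)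
    {S' : Finset (Fin 24)} (h : k * g * k⁻¹ ∈ U S' K) : k * g * k⁻¹ ∈ Δ.V S' :=
  ⟨h, Δ.W.mul_mem (Δ.W.mul_mem hk (Δ.V_W hg)) (Δ.W.inv_mem hk)⟩

/-! ### The fixed field -/

/-- The fixed field. -/
def E : Subfield K := (Δ.φ.toRingHom).eqLocusField (RingHom.id K)

theorem mem_E {t : K} : t ∈ Δ.E ↔ Δ.φ t = t := Iff.rfl

theorem φ_E (r : Δ.E) : Δ.φ (r : K) = r := Δ.mem_E.1 r.2

noncomputable instance : Fintype Δ.E := Fintype.ofFinite _

theorem card_E : Nat.card Δ.E = Δ.q := Δ.F.card_fix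

theorem card_E' : Fintype.card Δ.E = Δ.q := by rw [← Nat.card_eq_fintype_card, Δ.card_E]

include Δ in
theorem card_K_ge : 8 ≤ Fintype.card K := by
  rw [Δ.hK]
  have := Δ.hq1
  calc 8 = 2 ^ 3 := rfl
    _ ≤ Δ.q ^ 3 := Nat.pow_le_pow_left (by omega) 3

/-- The norm. -/
def N (t : K) : K := t * Δ.φ t * Δ.φ (Δ.φ t)

theorem N_mem (t : K) : Δ.N t ∈ Δ.E := by
  rw [Δ.mem_E, N, map_mul, map_mul, Δ.φ3]
  ring

theorem N_ne {t : K} (h : t ≠ 0) : Δ.N t ≠ 0 := by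
  have h1 : Δ.φ t ≠ 0 := (map_ne_zero Δ.φ).2 h
  exact mul_ne_zero (mul_ne_zero h h1) ((map_ne_zero Δ.φ).2 h1)

/-- The trace. -/
def Tr (t : K) : K := t + Δ.φ t + Δ.φ (Δ.φ t)

/-- The automorphism on units. -/
noncomputable def φu : Kˣ →* Kˣ := Units.map (Δ.φ : K →* K)

theorem φu_val (x : Kˣ) : ((Δ.φu x : Kˣ) : K) = Δ.φ x := rfl

/-- The norm of units, with values in the fixed field. -/
noncomputable def nmE : Kˣ →* (Δ.E)ˣ :=
  MonoidHom.mk' (fun x => Units.mk0 ⟨Δ.N x, Δ.N_mem x⟩ fun h => Δ.N_ne x.ne_zero (congrArg Subtype.val h))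
    (fun x y => Units.ext (Subtype.ext (by
      show Δ.N ((x * y : Kˣ) : K) = Δ.N x * Δ.N y
      simp only [N, Units.val_mul, map_mul]; ring)))

theorem nmE_val (x : Kˣ) : (((Δ.nmE x : (Δ.E)ˣ) : Δ.E) : K) = Δ.N x := rfl

/-! ### Orbit elements -/

/-- The element of an orbit of three roots. -/
noncomputable def Orb (a : Fin 24) (t : K) : GL chevD4.Idx K :=
  X a t * Δ.τ (X a t) * Δ.τ (Δ.τ (X a t))

theorem Orb_eq (a : Fin 24) (t : K) : Δ.Orb a t = X a t * X (pi a) ((eps a : K) * Δ.φ t) *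
    X (pi (pi a)) ((eps (pi a) * eps a : ℤ) * Δ.φ (Δ.φ t)) := by
  rw [Orb, Δ.τ_X, Δ.τ_X, map_mul, map_intCast, Int.cast_mul, mul_assoc ((eps (pi a) : ℤ) : K)]

/-- The conditions on an orbit of three root subgroups. -/
def Cyc (a : Fin 24) : Prop :=
  pi (pi (pi a)) = a ∧ eps (pi (pi a)) * eps (pi a) * eps a = 1 ∧ Comm a (pi a) ∧ Comm a (pi (pi a)) ∧
    Comm (pi a) (pi (pi a))

instance (a : Fin 24) : Decidable (Cyc a) := by unfold Cyc; infer_instance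

theorem τ3_X {a : Fin 24} (h : Cyc a) (t : K) : Δ.τ (Δ.τ (Δ.τ (X a t))) = X a t := by
  rw [Δ.τ_X, Δ.τ_X, Δ.τ_X, h.1]
  congr 1
  simp only [map_mul, map_intCast, Δ.φ3]
  rw [← mul_assoc, ← mul_assoc, ← Int.cast_mul, ← Int.cast_mul, h.2.1]
  simp

theorem Orb_mem {a : Fin 24} (h : Cyc a) (t : K) : Δ.Orb a t ∈ Δ.W := by
  refine Δ.mem_W.2 ⟨?_, ?_⟩
  · rw [Δ.Orb_eq]; exact mul_mem (mul_mem (X_mem _ _) (X_mem _ _)) (X_mem _ _)
  · have e := Δ.τ3_X h t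
    rw [Orb, map_mul, map_mul, e]
    have c1 : Commute (X a t) (Δ.τ (X a t)) := by rw [Δ.τ_X]; exact comm_X h.2.2.1 _ _
    have c2 : Commute (X a t) (Δ.τ (Δ.τ (X a t))) := by rw [Δ.τ_X, Δ.τ_X]; exact comm_X h.2.2.2.1 _ _
    exact (c1.mul_right c2).eq.symm.trans (mul_assoc _ _ _).symm

theorem Orb_mem_U {a : Fin 24} {S : Finset (Fin 24)} (ha : a ∈ S) (hb : pi a ∈ S) (hc : pi (pi a) ∈ S) (t : K) :
    Δ.Orb a t ∈ U S K := by
  rw [Δ.Orb_eq]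
  exact mul_mem (mul_mem (X_mem_U ha _) (X_mem_U hb _)) (X_mem_U hc _)

theorem Orb_mem_V {a : Fin 24} {S : Finset (Fin 24)} (h : Cyc a) (ha : a ∈ S) (hb : pi a ∈ S) (hc : pi (pi a) ∈ S)
    (t : K) : Δ.Orb a t ∈ Δ.V S := ⟨Δ.Orb_mem_U ha hb hc t, Δ.Orb_mem h t⟩

/-- A fixed root element. -/
theorem X_fix_mem {n : Fin 24} (h : pi n = n ∧ eps n = 1) {t : K} (ht : t ∈ Δ.E) : X n t ∈ Δ.W := by
  refine Δ.mem_W.2 ⟨X_mem _ _, ?_⟩
  rw [Δ.τ_X, h.1, h.2, Δ.mem_E.1 ht]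
  simp

theorem X_fix_mem_V {n : Fin 24} {S : Finset (Fin 24)} (h : pi n = n ∧ eps n = 1) (hn : n ∈ S) {t : K}
    (ht : t ∈ Δ.E) : X n t ∈ Δ.V S := ⟨X_mem_U hn t, Δ.X_fix_mem h ht⟩

/-- The side conditions for an orbit coordinate. -/
def Split3 (a : Fin 24) (S : Finset (Fin 24)) : Prop :=
  Cyc a ∧ Free a (insert (pi a) (insert (pi (pi a)) S)) ∧ Free (pi a) (insert (pi (pi a)) S) ∧
    Free (pi (pi a)) S ∧ Stab a (insert (pi a) (insert (pi (pi a)) S)) ∧ Stab (pi a) (insert (pi (pi a)) S) ∧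
    Stab (pi (pi a)) S ∧ ∀ n ∈ S, pi n ∈ S

instance (a : Fin 24) (S : Finset (Fin 24)) : Decidable (Split3 a S) := by unfold Split3; infer_instance

/-- Splitting off an orbit of three roots. -/
theorem orbit_split {a : Fin 24} {S : Finset (Fin 24)} (h : Split3 a S) {T' : Finset (Fin 24)}
    (hT : T' = insert a (insert (pi a) (insert (pi (pi a)) S))) {g : GL chevD4.Idx K} (hg : g ∈ Δ.V T') :
    ∃ t : K, ∃ q ∈ Δ.V S, g = Δ.Orb a t * q := by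
  obtain ⟨hc, f1, f2, f3, s1, s2, s3, hpi⟩ := h
  obtain ⟨t, g1, hg1, e1⟩ := exists_split a s1 hT (Δ.V_U hg)
  obtain ⟨u, g2, hg2, e2⟩ := exists_split (pi a) s2 rfl hg1
  obtain ⟨w, q, hq, e3⟩ := exists_split (pi (pi a)) s3 rfl hg2
  subst e3; subst e2; subst e1
  set b := pi a with hb
  set c := pi b with hcd
  have hca : pi c = a := hc.1
  set t' := (eps a : K) * Δ.φ t with ht'
  set u' := (eps b : K) * Δ.φ u with hu'
  set w' := (eps c : K) * Δ.φ w with hw'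
  have hτq : Δ.τ q ∈ U S K := Δ.τ_U hpi hq
  have e : X a t * (X b u * (X c w * q)) = X a w' * (X b t' * (X c u' * Δ.τ q)) := by
    conv_lhs => rw [← Δ.τ_eq (Δ.V_W hg), map_mul, map_mul, map_mul, Δ.τ_X, Δ.τ_X, Δ.τ_X, ← hb, ← hcd, hca,
      ← ht', ← hu', ← hw']
    have c1 := comm_X hc.2.2.1 w' t'
    have c2 := comm_X hc.2.2.2.1 w' u'
    rw [← hb] at c1; rw [← hb, ← hcd] at c2
    rw [← mul_assoc (X c u') (X a w'), ← c2.eq, mul_assoc (X a w'), ← mul_assoc (X b t'), ← c1.eq,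
      mul_assoc (X a w')]
  have i2 : X c w * q ∈ U (insert c S) K :=
    mul_mem (X_mem_U (Finset.mem_insert_self _ _) _) (U_mono (Finset.subset_insert _ _) hq)
  have i2' : X c u' * Δ.τ q ∈ U (insert c S) K :=
    mul_mem (X_mem_U (Finset.mem_insert_self _ _) _) (U_mono (Finset.subset_insert _ _) hτq)
  have i1 : X b u * (X c w * q) ∈ U (insert b (insert c S)) K :=
    mul_mem (X_mem_U (Finset.mem_insert_self _ _) _) (U_mono (Finset.subset_insert _ _) i2)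
  have i1' : X b t' * (X c u' * Δ.τ q) ∈ U (insert b (insert c S)) K :=
    mul_mem (X_mem_U (Finset.mem_insert_self _ _) _) (U_mono (Finset.subset_insert _ _) i2')
  have h1 : t = w' := coef_unique f1 i1 i1' e
  rw [← h1] at e
  have e' := mul_left_cancel e
  have h2 : u = t' := coef_unique f2 i2 i2' e'
  rw [← h2] at e'
  have e'' := mul_left_cancel e'
  have h3 : w = u' := coef_unique f3 hq hτq e''
  rw [← h3] at e''
  have hfq : Δ.τ q = q := (mul_left_cancel e'').symm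
  refine ⟨t, q, Δ.mem_V hq hfq, ?_⟩
  rw [Orb, Δ.τ_X, ← hb, ← ht', ← h2, Δ.τ_X, ← hcd, ← hu', ← h3]
  simp only [mul_assoc]

/-- Splitting off a fixed root. -/
theorem fixed_split {n : Fin 24} {S : Finset (Fin 24)} (h : pi n = n ∧ eps n = 1) (hf : Free n S)
    (hs : Stab n S) (hpi : ∀ m ∈ S, pi m ∈ S) {T' : Finset (Fin 24)} (hT : T' = insert n S)
    {g : GL chevD4.Idx K} (hg : g ∈ Δ.V T') : ∃ t ∈ Δ.E, ∃ q ∈ Δ.V S, g = X n t * q := by
  obtain ⟨t, q, hq, rfl⟩ := exists_split n hs hT (Δ.V_U hg)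
  have e : X n t * q = X n (Δ.φ t) * Δ.τ q := by
    conv_lhs => rw [← Δ.τ_eq (Δ.V_W hg), map_mul, Δ.τ_X, h.1, h.2, Int.cast_one, one_mul]
  have h1 : t = Δ.φ t := coef_unique hf hq (Δ.τ_U hpi hq) e
  rw [← h1] at e
  exact ⟨t, Δ.mem_E.2 h1.symm, q, Δ.mem_V hq (mul_left_cancel e).symm, rfl⟩

theorem split_b {u : GL chevD4.Idx K} (hu : u ∈ Δ.V Pos) :
    kap u ∈ Δ.E ∧ ∃ q ∈ Δ.V Qb, u = X 14 (kap u) * q := by
  obtain ⟨t, ht, q, hq, rfl⟩ := Δ.fixed_split (n := 14) (S := Qb) (T' := Pos) (by decide) free14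
    (by decide +kernel) (by decide) (by decide) hu
  rw [kap_eq (Δ.V_U hq)]
  exact ⟨ht, q, hq, rfl⟩

end Env

end Cfsg.Agent.Lib.D4Gauss
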