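import Cfsg.Agent.Lib.BNPair.Basic
import Mathlib.LinearAlgebra.Matrix.Charpoly.Coeff
import Mathlib.RingTheory.Nilpotent.Basic
import Mathlib.RingTheory.LocalRing.Basic

/-!
In a finite group with a (B, N)-pair of rank two whose panels have 1 mod p chambers, every element is
conjugate into the product of the two minimal parabolic subgroups: the trace of an element on the
functions on the chambers, composed with the product of the two panel averages, is 1 mod p.
-/

set_option autoImplicit false
set_option linter.unusedSectionVars false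

namespace Cfsg.Agent.Lib.D4Gauss.FlagTrace

open Cfsg.Agent.Lib.BNPair.Basic
open DoubleCoset

variable {G : Type*} [Group G] {P : Cfsg.BNPair G}

/-- The minimal parabolic is `B ∪ B s B`. -/
theorem parabolic_cases {s : G} (hs : s ∈ P.S) {g : G} (hg : g ∈ P.parabolic {s}) :
    g ∈ P.B ∨ g ∈ cell P s := by
  obtain ⟨n, hn, hc⟩ := (mem_parabolic_iff (P := P) (Set.singleton_subset_iff.2 hs)).1 hg
  have key : n ∈ P.N ∧ (SameW P 1 n ∨ SameW P s n) := by
    clear hc
    induction hn using Subgroup.closure_induction with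
    | mem x hx =>
      rw [Set.mem_singleton_iff] at hx
      subst hx
      exact ⟨S_subset_N hs, Or.inr (sameW_refl _)⟩
    | one => exact ⟨one_mem _, Or.inl (sameW_refl _)⟩
    | mul x y _ _ ihx ihy =>
      refine ⟨mul_mem ihx.1 ihy.1, ?_⟩
      rcases ihx.2 with hx | hx
      · have hxy : SameW P y (x * y) := by simpa using sameW_mul_right (one_mem _) ihx.1 ihy.1 hx
        rcases ihy.2 with hy | hy
        · exact Or.inl (sameW_trans hy hxy)
        · exact Or.inr (sameW_trans hy hxy)
      · have hxy : SameW P (s * y) (x * y) := sameW_mul_right (S_subset_N hs) ihx.1 ihy.1 hx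
        rcases ihy.2 with hy | hy
        · exact Or.inr (sameW_trans (by simpa using sameW_mul_left s hy) hxy)
        · exact Or.inl (sameW_trans (sameW_trans (sameW_symm (sq_sameW hs)) (sameW_mul_left s hy)) hxy)
    | inv x _ ih =>
      refine ⟨inv_mem ih.1, ?_⟩
      rcases ih.2 with hx | hx
      · exact Or.inl (by simpa using sameW_inv (one_mem _) ih.1 hx)
      · exact Or.inr (sameW_trans (sameW_symm (inv_sameW hs)) (sameW_inv (S_subset_N hs) ih.1 hx))
  rcases key.2 with h | h
  · left
    have hnB : n ∈ P.B := sameW_one_iff.1 h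
    rw [cell_of_mem_B hnB] at hc
    exact hc
  · right
    rwa [cell_eq_of_sameW h] at hc

theorem cell_le_parabolic {s : G} (hs : s ∈ P.S) {g : G} (hg : g ∈ cell P s) : g ∈ P.parabolic {s} :=
  (mem_parabolic_iff (P := P) (Set.singleton_subset_iff.2 hs)).2
    ⟨s, Subgroup.subset_closure (Set.mem_singleton s), hg⟩

/-- Multiplying a cell on the right by `B s B` when the length does not go down. -/
theorem mul_mem_cell_right_of_le {s n b : G} (hs : s ∈ P.S) (hn : n ∈ P.N)
    (h : len P n ≤ len P (n * s)) (hb : b ∈ P.B) : n * b * s ∈ cell P (n * s) := by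
  have hn' := P.N.inv_mem hn
  have hs' := S_subset_N hs
  have hns : SameW P (n * s⁻¹) (n * s) := sameW_mul_left n (inv_sameW hs)
  have hlen : len P n⁻¹ ≤ len P (s * n⁻¹) := by
    rw [len_inv hn, ← len_inv (P.N.mul_mem hs' hn'), _root_.mul_inv_rev, inv_inv,
      len_congr (P.N.mul_mem hn (P.N.inv_mem hs')) (P.N.mul_mem hn hs') hns]
    exact h
  have hb' : (s * s)⁻¹ * b⁻¹ ∈ P.B :=
    P.B.mul_mem (P.B.inv_mem (P.sq_mem s hs)) (P.B.inv_mem hb)
  have h1 := inv_mem_cell (mul_mem_cell_of_le hs hn' hlen hb')
  rw [show s * ((s * s)⁻¹ * b⁻¹) * n⁻¹ = (n * b * s)⁻¹ by group, inv_inv, _root_.mul_inv_rev, inv_inv,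
    ← cell_eq_of_sameW hns] at h1
  exact h1

variable [Finite G] (P) (p : ℕ) [Fact p.Prime]

/-- The chambers. -/
abbrev Flag : Type _ := G ⧸ P.B

open scoped Classical in
/-- Adjacency along a panel. -/
noncomputable def KK (s : G) : Matrix (Flag P) (Flag P) (ZMod p) :=
  Matrix.of fun x y => if (x.out)⁻¹ * y.out ∈ P.parabolic {s} then 1 else 0

/-- The panels have 1 mod p chambers. -/
def PanelOK : Prop := ∀ s ∈ P.S, (Nat.card {c : Flag P // c.out ∈ cell P s} : ZMod p) = 0

variable {P} {p}

open scoped Classical in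
theorem KK_mk (s g h : G) :
    KK P p s (g : Flag P) (h : Flag P) = if g⁻¹ * h ∈ P.parabolic {s} then 1 else 0 := by
  obtain ⟨a, ha⟩ := QuotientGroup.mk_out_eq_mul P.B g
  obtain ⟨b, hb⟩ := QuotientGroup.mk_out_eq_mul P.B h
  simp only [KK, Matrix.of_apply, ha, hb]
  have hB := B_le_parabolic (P := P) {s}
  have : (g * a.1)⁻¹ * (h * b.1) ∈ P.parabolic {s} ↔ g⁻¹ * h ∈ P.parabolic {s} := by
    rw [show (g * a.1)⁻¹ * (h * b.1) = a.1⁻¹ * (g⁻¹ * h) * b.1 by group,
      Subgroup.mul_mem_cancel_right _ (hB b.2), Subgroup.mul_mem_cancel_left _ (inv_mem (hB a.2))]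
  simp only [this]

theorem KK_smul (s g : G) (x y : Flag P) : KK P p s (g • x) (g • y) = KK P p s x y := by
  induction x using QuotientGroup.induction_on with
  | H a =>
    induction y using QuotientGroup.induction_on with
    | H b =>
      rw [MulAction.Quotient.smul_coe, MulAction.Quotient.smul_coe, KK_mk, KK_mk, smul_eq_mul, smul_eq_mul,
        show (g * a)⁻¹ * (g * b) = a⁻¹ * b by group]

theorem KK_symm (s : G) (x y : Flag P) : KK P p s x y = KK P p s y x := by
  induction x using QuotientGroup.induction_on with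
  | H a =>
    induction y using QuotientGroup.induction_on with
    | H b =>
      rw [KK_mk, KK_mk]
      have : a⁻¹ * b ∈ P.parabolic {s} ↔ b⁻¹ * a ∈ P.parabolic {s} := by
        rw [← Subgroup.inv_mem_iff (P.parabolic {s}), _root_.mul_inv_rev, inv_inv]
      by_cases h : a⁻¹ * b ∈ P.parabolic {s}
      · rw [if_pos h, if_pos (this.1 h)]
      · rw [if_neg h, if_neg (fun h' => h (this.2 h'))]

/-- The functions on chambers invariant under B. -/
def BInv (f : Flag P → ZMod p) : Prop := ∀ b ∈ P.B, ∀ x, f (b • x) = f x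

theorem BInv.cell {f : Flag P → ZMod p} (hf : BInv f) {n g : G} (hg : g ∈ cell P n) :
    f (g : Flag P) = f (n : Flag P) := by
  obtain ⟨x, hx, y, hy, rfl⟩ := mem_cell_iff.1 hg
  have e : ((x * n * y : G) : Flag P) = x • (n : Flag P) := by
    rw [MulAction.Quotient.smul_coe, smul_eq_mul, QuotientGroup.eq]
    have : (x * n * y)⁻¹ * (x * n) = y⁻¹ := by group
    rw [this]
    exact P.B.inv_mem hy
  rw [e, hf x hx]

open scoped Classical in
theorem sum_KK [Fintype (Flag P)] {s : G} (hs : s ∈ P.S) (g : G) (f : Flag P → ZMod p) :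
    ∑ x, f x * KK P p s x (g : Flag P) =
      f (g : Flag P) + ∑ c : {c : Flag P // c.out ∈ cell P s}, f (g • c.1) := by
  classical
  have e1 : ∑ x, f x * KK P p s x (g : Flag P) = ∑ c, f (g • c) * KK P p s (g • c) (g : Flag P) :=
    (Fintype.sum_equiv (MulAction.toPerm g) _ _ fun c => rfl).symm
  have e2 : ∀ c : Flag P, KK P p s (g • c) (g : Flag P) =
      (if c = ((1 : G) : Flag P) then 1 else 0) + (if c.out ∈ BNPair.Basic.cell P s then 1 else 0) := by
    intro c
    induction c using QuotientGroup.induction_on with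
    | H a =>
      obtain ⟨b, hb⟩ := QuotientGroup.mk_out_eq_mul P.B a
      rw [MulAction.Quotient.smul_coe, smul_eq_mul, KK_mk, show (g * a)⁻¹ * g = a⁻¹ by group, hb]
      have hB : (a : Flag P) = ((1 : G) : Flag P) ↔ a ∈ P.B := by
        rw [QuotientGroup.eq, mul_one, Subgroup.inv_mem_iff]
      have hc : a * b.1 ∈ BNPair.Basic.cell P s ↔ a ∈ BNPair.Basic.cell P s :=
        ⟨fun h => by simpa using mul_mem_cell_right (P.B.inv_mem b.2) h, fun h => mul_mem_cell_right b.2 h⟩
      have hnd : a ∈ P.B → a ∉ BNPair.Basic.cell P s := fun ha h => by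
        obtain ⟨x, hx, y, hy, e⟩ := mem_cell_iff.1 h
        refine not_mem_B hs ?_
        have : s = x⁻¹ * a * y⁻¹ := by rw [e]; group
        rw [this]
        exact P.B.mul_mem (P.B.mul_mem (P.B.inv_mem hx) ha) (P.B.inv_mem hy)
      simp only [hB, hc, Subgroup.inv_mem_iff]
      by_cases ha : a ∈ P.B
      · rw [if_pos (B_le_parabolic (P := P) {s} ha), if_pos ha, if_neg (hnd ha), add_zero]
      · by_cases ha' : a ∈ BNPair.Basic.cell P s
        · rw [if_pos (cell_le_parabolic hs ha'), if_neg ha, if_pos ha', zero_add]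
        · rw [if_neg ha, if_neg ha', if_neg fun h => (parabolic_cases hs h).elim ha ha', zero_add]
  rw [e1]
  simp only [e2, mul_add, Finset.sum_add_distrib, mul_ite, mul_one, mul_zero, Finset.sum_ite_eq', Finset.mem_univ,
    if_true]
  rw [MulAction.Quotient.smul_coe, smul_eq_mul, mul_one, ← Finset.sum_filter,
    Finset.sum_subtype (Finset.univ.filter fun c : Flag P => c.out ∈ BNPair.Basic.cell P s)
      (p := fun c : Flag P => c.out ∈ BNPair.Basic.cell P s) (fun c => by simp)]

theorem sum_KK_one [Fintype (Flag P)] (hP : PanelOK P p) {s : G} (hs : s ∈ P.S) (y : Flag P) :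
    ∑ x, KK P p s x y = 1 := by
  classical
  induction y using QuotientGroup.induction_on with
  | H g =>
    have := sum_KK hs g (fun _ => (1 : ZMod p))
    simp only [one_mul] at this
    rw [this, Finset.sum_const, Finset.card_univ, ← Nat.card_eq_fintype_card, nsmul_eq_mul, hP s hs, zero_mul,
      add_zero]

theorem BInv.step [Fintype (Flag P)] {f : Flag P → ZMod p} (hf : BInv f) (s : G) :
    BInv (Matrix.vecMul f (KK P p s)) := by
  intro b hb y
  simp only [Matrix.vecMul, dotProduct]
  refine Fintype.sum_equiv (MulAction.toPerm b⁻¹) _ _ fun x => ?_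
  simp only [MulAction.toPerm_apply]
  rw [hf b⁻¹ (inv_mem hb), ← KK_smul s b⁻¹ x (b • y), inv_smul_smul]

theorem vecMul_up [Fintype (Flag P)] (hP : PanelOK P p) {f : Flag P → ZMod p} (hf : BInv f) {s n : G}
    (hs : s ∈ P.S) (hn : n ∈ P.N) (h : len P n ≤ len P (n * s)) :
    Matrix.vecMul f (KK P p s) (n : Flag P) = f (n : Flag P) := by
  classical
  simp only [Matrix.vecMul, dotProduct]
  rw [sum_KK hs n f]
  have hc : ∀ c : {c : Flag P // c.out ∈ BNPair.Basic.cell P s}, f (n • c.1) = f ((n * s : G) : Flag P) := by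
    rintro ⟨c, hc⟩
    obtain ⟨x, hx, y, hy, e⟩ := mem_cell_iff.1 hc
    show f (n • c) = _
    conv_lhs => rw [← QuotientGroup.out_eq' c]
    rw [MulAction.Quotient.smul_coe, smul_eq_mul]
    refine hf.cell ?_
    rw [e, show n * (x * s * y) = n * x * s * y by group]
    exact mul_mem_cell_right hy (mul_mem_cell_right_of_le hs hn h hx)
  simp only [hc, Finset.sum_const, Finset.card_univ, ← Nat.card_eq_fintype_card, nsmul_eq_mul, hP s hs, zero_mul,
    add_zero]

theorem vecMul_down [Fintype (Flag P)] (hP : PanelOK P p) {f : Flag P → ZMod p} (hf : BInv f) {s n : G}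
    (hs : s ∈ P.S) (hn : n ∈ P.N) (h : len P (n * s) < len P n) :
    Matrix.vecMul f (KK P p s) (n : Flag P) = f ((n * s : G) : Flag P) := by
  classical
  have hns := P.N.mul_mem hn (S_subset_N hs)
  rw [← vecMul_up hP hf hs hns (by rw [len_congr (P.N.mul_mem hns (S_subset_N hs)) hn (mul_sq_sameW hs)]; omega)]
  simp only [Matrix.vecMul, dotProduct]
  refine Finset.sum_congr rfl fun x _ => ?_
  congr 1
  induction x using QuotientGroup.induction_on with
  | H a =>
    rw [KK_mk, KK_mk]
    have : a⁻¹ * n ∈ P.parabolic {s} ↔ a⁻¹ * (n * s) ∈ P.parabolic {s} := by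
      rw [← mul_assoc, Subgroup.mul_mem_cancel_right _ (mem_parabolic_of_mem (Set.mem_singleton s))]
    simp only [this]

theorem vecMul_step [Fintype (Flag P)] (hP : PanelOK P p) {f : Flag P → ZMod p} (hf : BInv f) {s n : G}
    (hs : s ∈ P.S) (hn : n ∈ P.N) :
    ∃ m ∈ P.N, Matrix.vecMul f (KK P p s) (n : Flag P) = f (m : Flag P) ∧ len P m ≤ len P n ∧
      (len P (n * s) < len P n → len P m < len P n) ∧ (¬ len P (n * s) < len P n → m = n) := by
  by_cases h : len P (n * s) < len P n
  · exact ⟨n * s, P.N.mul_mem hn (S_subset_N hs), vecMul_down hP hf hs hn h, h.le, fun _ => h, fun h' => absurd h h'⟩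
  · exact ⟨n, hn, vecMul_up hP hf hs hn (not_lt.1 h), le_rfl, fun h' => absurd h' h, fun _ => rfl⟩

theorem vecMul_pow [Fintype (Flag P)] [DecidableEq (Flag P)] (hP : PanelOK P p) {s t : G} (hS : P.S = {s, t}) :
    ∀ (k : ℕ) (f : Flag P → ZMod p), BInv f → ∀ n ∈ P.N, len P n ≤ k →
      Matrix.vecMul f ((KK P p s * KK P p t) ^ k) (n : Flag P) = f ((1 : G) : Flag P) := by
  intro k
  induction k with
  | zero =>
    intro f hf n hn h
    rw [pow_zero, Matrix.vecMul_one]
    refine congrArg f (QuotientGroup.eq.2 ?_)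
    rw [mul_one]
    exact P.B.inv_mem ((len_eq_zero_iff hn).1 (Nat.le_zero.1 h))
  | succ k ih =>
    intro f hf n hn h
    have hs : s ∈ P.S := by rw [hS]; exact Or.inl rfl
    have ht : t ∈ P.S := by rw [hS]; exact Or.inr rfl
    rw [pow_succ, ← Matrix.vecMul_vecMul, ← Matrix.vecMul_vecMul]
    set g := Matrix.vecMul f ((KK P p s * KK P p t) ^ k)
    have hg : BInv g := by
      have key : ∀ (j : ℕ) (f : Flag P → ZMod p), BInv f → BInv (Matrix.vecMul f ((KK P p s * KK P p t) ^ j)) := by
        intro j
        induction j with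
        | zero => intro f hf; rwa [pow_zero, Matrix.vecMul_one]
        | succ j ihj =>
          intro f hf
          rw [pow_succ, ← Matrix.vecMul_vecMul, ← Matrix.vecMul_vecMul]
          exact ((ihj f hf).step s).step t
      exact key k f hf
    obtain ⟨m, hm, em, hle, hlt, heq⟩ := vecMul_step hP (hg.step s) ht hn
    obtain ⟨m', hm', em', hle', hlt', -⟩ := vecMul_step hP hg hs hm
    rw [em, em']
    refine ih f hf m' hm' ?_
    by_cases hB : n ∈ P.B
    · have := (len_eq_zero_iff hn).2 hB
      omega
    obtain ⟨r, hr, hd⟩ := exists_right_descent hn hB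
    rw [hS] at hr
    by_cases htd : len P (n * t) < len P n
    · have := hlt htd
      omega
    · rcases hr with rfl | rfl
      · rw [heq htd] at hlt' hle'
        have := hlt' (by omega)
        omega
      · omega

/-- Every element is conjugate into the product of the two minimal parabolic subgroups. -/
theorem exists_conj_par (hP : PanelOK P p) {s t : G} (hS : P.S = {s, t}) (g : G) :
    ∃ k : G, ∃ p₁ ∈ P.parabolic {s}, ∃ p₂ ∈ P.parabolic {t}, k * g * k⁻¹ = p₁ * p₂ := by
  classical
  haveI : Fintype (Flag P) := Fintype.ofFinite _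
  haveI : Fintype G := Fintype.ofFinite G
  have hs : s ∈ P.S := by rw [hS]; exact Or.inl rfl
  have ht : t ∈ P.S := by rw [hS]; exact Or.inr rfl
  let M : Matrix (Flag P) (Flag P) (ZMod p) := KK P p s * KK P p t
  let J : Matrix (Flag P) (Flag P) (ZMod p) := Matrix.of fun _ _ => 1
  set N := (Finset.univ.sup fun x : G => len P x) + 1 with hNdef
  have hinv : ∀ (k : ℕ) (a : G) (x y : Flag P), (M ^ k) (a • x) (a • y) = (M ^ k) x y := by
    intro k
    induction k with
    | zero => intro a x y; simp [Matrix.one_apply]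
    | succ k ih =>
      intro a x y
      rw [pow_succ, Matrix.mul_apply, Matrix.mul_apply]
      refine (Fintype.sum_equiv (MulAction.toPerm a : Equiv.Perm (Flag P)) _ _ fun z => ?_).symm
      rw [MulAction.toPerm_apply, ih]
      congr 1
      simp only [M, Matrix.mul_apply]
      refine Fintype.sum_equiv (MulAction.toPerm a : Equiv.Perm (Flag P)) _ _ fun w => ?_
      simp only [MulAction.toPerm_apply, KK_smul]
  have hMN : M ^ N = J := by
    ext x y
    induction x using QuotientGroup.induction_on with
    | H a =>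
      induction y using QuotientGroup.induction_on with
      | H b =>
        have e := hinv N a ((1 : G) : Flag P) ((a⁻¹ * b : G) : Flag P)
        rw [MulAction.Quotient.smul_coe, MulAction.Quotient.smul_coe, smul_eq_mul, smul_eq_mul, mul_one,
          mul_inv_cancel_left] at e
        show _ = (1 : ZMod p)
        rw [e]
        set f0 : Flag P → ZMod p := Pi.single ((1 : G) : Flag P) 1 with hf0
        have inv0 : BInv f0 := by
          intro c hc x
          have hfix : c • ((1 : G) : Flag P) = ((1 : G) : Flag P) := by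
            rw [MulAction.Quotient.smul_coe, smul_eq_mul, mul_one]
            exact QuotientGroup.eq.2 (by simpa using hc)
          by_cases hx : x = ((1 : G) : Flag P)
          · rw [hx, hfix]
          · rw [hf0, Pi.single_eq_of_ne hx, Pi.single_eq_of_ne]
            intro e'
            exact hx (MulAction.injective c (e'.trans hfix.symm))
        obtain ⟨n, hn, hc⟩ := bruhat (P := P) (a⁻¹ * b)
        obtain ⟨u, hu, v, hv, euv⟩ := mem_cell_iff.1 hc
        have hrow : (M ^ N) ((1 : G) : Flag P) = Matrix.vecMul f0 (M ^ N) := by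
          rw [hf0, Matrix.single_one_vecMul]; rfl
        have hBI : BInv (Matrix.vecMul f0 (M ^ N)) := by
          intro c hc x
          rw [← hrow]
          have := hinv N c ((1 : G) : Flag P) x
          rwa [MulAction.Quotient.smul_coe, smul_eq_mul, mul_one,
            show ((c : G) : Flag P) = ((1 : G) : Flag P) from QuotientGroup.eq.2 (by simpa using hc)] at this
        rw [hrow, hBI.cell hc, vecMul_pow hP hS N f0 inv0 n hn (by
          have := Finset.le_sup (f := fun x : G => len P x) (Finset.mem_univ n)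
          omega), hf0, Pi.single_eq_same]
  have hJK : ∀ r ∈ P.S, J * KK P p r = J := fun r hr => by
    ext x y
    simp [J, Matrix.mul_apply, sum_KK_one hP hr]
  have hKJ : ∀ r ∈ P.S, KK P p r * J = J := fun r hr => by
    ext x y
    simp only [J, Matrix.mul_apply, Matrix.of_apply, mul_one]
    simp_rw [KK_symm r x]
    exact sum_KK_one hP hr x
  have hJM : J * M = J := by rw [← mul_assoc, hJK s hs, hJK t ht]
  have hMJ : M * J = J := by rw [mul_assoc, hKJ t ht, hKJ s hs]
  have hJJ : J * J = J := by
    have e : ∀ n : ℕ, J * M ^ n = J := fun n => by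
      induction n with
      | zero => simp
      | succ n ih => rw [pow_succ, ← mul_assoc, ih, hJM]
    have e3 := e N
    rwa [hMN] at e3
  have hpw : ∀ k : ℕ, (M - J) ^ (k + 1) = M ^ (k + 1) - J := by
    intro k
    induction k with
    | zero => simp
    | succ k ih =>
      have e : M ^ (k + 1) * J = J := by
        clear ih
        induction k with
        | zero => rw [zero_add, pow_one, hMJ]
        | succ k ih' => rw [pow_succ, mul_assoc, hMJ, ih']
      rw [pow_succ, ih, sub_mul, mul_sub, mul_sub, e, hJM, hJJ, sub_self, sub_zero, ← pow_succ]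
  have hnil : (M - J) ^ N = 0 := by rw [hNdef, hpw, ← hNdef, hMN, sub_self]
  let g' : G := g⁻¹
  let Q : Matrix (Flag P) (Flag P) (ZMod p) := Matrix.of fun x y => if y = g' • x then 1 else 0
  have hQmul : ∀ A : Matrix (Flag P) (Flag P) (ZMod p), ∀ x y, (Q * A) x y = A (g' • x) y := by
    intro A x y; simp [Q, Matrix.mul_apply]
  have hcomm : Commute Q (M - J) := by
    ext x y
    rw [hQmul]
    simp only [Q, Matrix.mul_apply, Matrix.of_apply, mul_ite, mul_one, mul_zero]
    rw [Finset.sum_eq_single (g'⁻¹ • y)]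
    · rw [if_pos (smul_inv_smul _ _).symm]
      have hMi := hinv 1 g' x (g'⁻¹ • y)
      rw [smul_inv_smul, pow_one] at hMi
      simp only [Matrix.sub_apply, J, Matrix.of_apply, hMi]
    · intro z _ hz
      rw [if_neg]
      intro e
      exact hz (by rw [e, inv_smul_smul])
    · simp
  have htr : (Q * (M - J)).trace = 0 :=
    IsNilpotent.eq_zero (Matrix.isNilpotent_trace_of_isNilpotent (hcomm.isNilpotent_mul_left ⟨N, hnil⟩))
  have hcard : (Fintype.card (Flag P) : ZMod p) = 1 := by
    have := congrFun (congrFun hJJ ((1 : G) : Flag P)) ((1 : G) : Flag P)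
    simpa [J, Matrix.mul_apply] using this
  obtain ⟨x, hx⟩ : ∃ x, M (g' • x) x ≠ 0 := by
    by_contra hall
    simp only [not_exists, not_not] at hall
    rw [Matrix.trace] at htr
    simp only [Matrix.diag, hQmul, Matrix.sub_apply, hall, zero_sub, J, Matrix.of_apply, Finset.sum_const,
      Finset.card_univ, nsmul_eq_mul, mul_neg, mul_one, neg_eq_zero, hcard] at htr
    exact one_ne_zero htr
  induction x using QuotientGroup.induction_on with
  | H a =>
    rw [MulAction.Quotient.smul_coe, smul_eq_mul] at hx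
    simp only [M, Matrix.mul_apply] at hx
    obtain ⟨z, -, hz⟩ := Finset.exists_ne_zero_of_sum_ne_zero hx
    induction z using QuotientGroup.induction_on with
    | H c =>
      rw [KK_mk, KK_mk] at hz
      have h1 : (g' * a)⁻¹ * c ∈ P.parabolic {s} := by
        by_contra h; rw [if_neg h, zero_mul] at hz; exact hz rfl
      have h2 : c⁻¹ * a ∈ P.parabolic {t} := by
        by_contra h; rw [if_neg h, mul_zero] at hz; exact hz rfl
      refine ⟨a⁻¹, _, h1, _, h2, ?_⟩
      simp [g', mul_assoc]

end Cfsg.Agent.Lib.D4Gauss.FlagTrace
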