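import Cfsg.Agent.Lib.D4Gauss.Levi

/-!
Explicit conjugations by orbit elements and the coefficient of the central simple root of the results.
-/

set_option autoImplicit false
set_option maxRecDepth 100000
set_option linter.unusedSectionVars false

namespace Cfsg.Agent.Lib.D4Gauss

open Cfsg.Lie Cfsg.Agent.Lib.ChevStructure
open Cfsg.Agent.Lib.LieTwisted Cfsg.Agent.Lib.LieTwisted.Twist
open scoped MatrixGroups Matrix

variable {K : Type*} [Field K]

/-- Conjugation by a root element. -/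
noncomputable def cj (r : Fin 24) (z : K) : GL chevD4.Idx K →* GL chevD4.Idx K :=
  (MulAut.conj (X r z)).toMonoidHom

theorem cj_apply (r : Fin 24) (z : K) (g : GL chevD4.Idx K) : cj r z g = X r z * g * X r (-z) := by
  rw [← X_inv]; rfl

/-- A single term in the commutator formula. -/
def Term (r s c : Fin 24) (k : ℤ) : Prop :=
  s ≠ r ∧ s ≠ r.rev ∧ chevD4.commTerms r.val s.val = [(c.val, k, 1, 1)]

instance (r s c : Fin 24) (k : ℤ) : Decidable (Term r s c k) := by unfold Term; infer_instance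

theorem cj_term {r s c : Fin 24} {k : ℤ} (h : Term r s c k) (z u : K) :
    cj r z (X s u) = X s u * X c ((k : K) * z * u) := by
  rw [cj_apply, conj_X r s _ ⟨h.1, h.2.1, h.2.2, by simp⟩]
  simp

theorem cj_comm {r s : Fin 24} (h : Comm r s) (z u : K) : cj r z (X s u) = X s u := by
  rw [cj_apply, (comm_X h z u).eq, mul_assoc, X_add, add_neg_cancel, X_zero, mul_one]

/-- Membership in U with prescribed coefficient of 14. -/
def KV (g : GL chevD4.Idx K) (k : K) : Prop := g ∈ U Pos K ∧ kap g = k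

theorem KV.mul {g h : GL chevD4.Idx K} {a b : K} (hg : KV g a) (hh : KV h b) : KV (g * h) (a + b) :=
  ⟨mul_mem hg.1 hh.1, by rw [kap_mul hg.1 hh.1, hg.2, hh.2]⟩

theorem KV.congr {g : GL chevD4.Idx K} {a b : K} (hg : KV g a) (h : a = b) : KV g b := h ▸ hg

theorem KV_14 (t : K) : KV (X 14 t) t := ⟨X_mem_U (by decide) t, by rw [kap_X 14 (by decide), if_pos rfl]⟩

theorem KV_0 (n : Fin 24) (h : n ∈ Pos) (h' : n ≠ 14) (t : K) : KV (X n t) 0 :=
  ⟨X_mem_U h t, by rw [kap_X n h, if_neg h']⟩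

/-- The effect of the negative orbit of simple roots on the second level. -/
theorem kap_conj4 (u v w a b c z : K) :
    KV (cj 5 u (cj 10 v (cj 11 w (X 21 a * X 17 b * X 20 c * X 22 z))))
      (v * w * b - u * w * c - u * v * a - u * v * w * z) := by
  simp only [map_mul, cj_comm (r := 11) (s := 21) (by decide +kernel),
    cj_term (show Term 11 17 16 1 by decide +kernel), cj_term (show Term 11 20 19 1 by decide +kernel),
    cj_term (show Term 11 22 21 1 by decide +kernel), cj_term (show Term 10 21 19 1 by decide +kernel),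
    cj_term (show Term 10 17 15 1 by decide +kernel), cj_term (show Term 10 16 14 1 by decide +kernel),
    cj_comm (r := 10) (s := 20) (by decide +kernel), cj_comm (r := 10) (s := 19) (by decide +kernel),
    cj_term (show Term 10 22 20 1 by decide +kernel)]
  simp only [cj_term (show Term 5 21 16 (-1) by decide +kernel), cj_term (show Term 5 19 14 (-1) by decide +kernel),
    cj_comm (r := 5) (s := 17) (by decide +kernel), cj_comm (r := 5) (s := 15) (by decide +kernel),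
    cj_comm (r := 5) (s := 16) (by decide +kernel), cj_comm (r := 5) (s := 14) (by decide +kernel),
    cj_term (show Term 5 20 15 (-1) by decide +kernel), cj_term (show Term 5 22 17 (-1) by decide +kernel)]
  apply KV.congr
  · repeat' apply KV.mul
    all_goals first
      | exact KV_14 _
      | exact KV_0 _ (by decide) (by decide) _
  · push_cast
    ring

namespace Env

variable [Fintype K] (Δ : Env K)

theorem Y7_conj (t : K) (g : GL chevD4.Idx K) :
    Δ.Y7 t * g * (Δ.Y7 t)⁻¹ = cj 18 t (cj 13 (Δ.φ t) (cj 12 (Δ.φ (Δ.φ t)) g)) := by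
  rw [Δ.Y7_eq, cj_apply, cj_apply, cj_apply, _root_.mul_inv_rev, _root_.mul_inv_rev, X_inv, X_inv, X_inv]
  simp only [mul_assoc]

theorem Y4_conj (s : K) (g : GL chevD4.Idx K) :
    Δ.Y4 s * g * (Δ.Y4 s)⁻¹ = cj 5 s (cj 10 (Δ.φ s) (cj 11 (Δ.φ (Δ.φ s)) g)) := by
  rw [Δ.Y4_eq, cj_apply, cj_apply, cj_apply, _root_.mul_inv_rev, _root_.mul_inv_rev, X_inv, X_inv, X_inv]
  simp only [mul_assoc]

theorem Orb21_eq (t : K) : Δ.Orb 21 t = X 21 t * X 17 (-Δ.φ t) * X 20 (Δ.φ (Δ.φ t)) := by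
  obtain ⟨h1, h2, h3, h4⟩ : pi 21 = 17 ∧ pi 17 = 20 ∧ eps 21 = -1 ∧ eps 17 = -1 := by decide
  rw [Δ.Orb_eq, h1, h2, h3, h4]
  simp

theorem Orb19_eq (t : K) : Δ.Orb 19 t = X 19 t * X 16 (-Δ.φ t) * X 15 (-Δ.φ (Δ.φ t)) := by
  obtain ⟨h1, h2, h3, h4⟩ : pi 19 = 16 ∧ pi 16 = 15 ∧ eps 19 = -1 ∧ eps 16 = 1 := by decide
  rw [Δ.Orb_eq, h1, h2, h3, h4]
  simp

theorem Orb_zero (a : Fin 24) : Δ.Orb a 0 = 1 := by simp [Orb, X_zero]

/-- Conjugating a root element in 3a+b by the negative orbit. -/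
theorem kap_Y4_X22 (s z : K) : KV (Δ.Y4 (-s) * X 22 z * Δ.Y4 s) (Δ.N s * z) := by
  have h := kap_conj4 (-s) (-Δ.φ s) (-Δ.φ (Δ.φ s)) 0 0 0 z
  simp only [X_zero, one_mul, mul_zero, sub_zero, zero_sub] at h
  refine KV.congr ?_ (show -(-s * -Δ.φ s * -Δ.φ (Δ.φ s) * z) = _ by rw [N]; ring)
  have e := Δ.Y4_conj (-s) (X 22 z)
  rw [Δ.Y4_inv, neg_neg, map_neg, map_neg] at e
  rw [e]
  exact h

/-- Conjugating an element of the orbit of 2a+b and of 3a+b by the negative orbit. -/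
theorem kap_Y4_level3 (s γ δ : K) :
    KV (Δ.Y4 s * (Δ.Orb 21 γ * X 22 δ) * Δ.Y4 (-s))
      (-(Δ.φ s * Δ.φ (Δ.φ s) * Δ.φ γ + s * Δ.φ (Δ.φ s) * Δ.φ (Δ.φ γ) + s * Δ.φ s * γ + Δ.N s * δ)) := by
  have h := kap_conj4 s (Δ.φ s) (Δ.φ (Δ.φ s)) γ (-Δ.φ γ) (Δ.φ (Δ.φ γ)) δ
  rw [← Δ.Y4_inv, Δ.Y4_conj, Δ.Orb21_eq]
  exact KV.congr h (by rw [N]; ring)

/-- The roots of level two except 19. -/
def R19 : Finset (Fin 24) := {15, 16, 17, 20, 21, 22, 23}

/-- Coefficients at 14 and at 19. -/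
def P19 (β c : K) (g : GL chevD4.Idx K) : Prop := ∃ r ∈ U R19 K, g = X 14 β * X 19 c * r

theorem P19.cj18 {β c : K} {g : GL chevD4.Idx K} (h : P19 β c g) (z : K) : P19 β (c - z * β) (cj 18 z g) := by
  obtain ⟨r, hr, rfl⟩ := h
  refine ⟨cj 18 z r, by rw [cj_apply]; exact conj_U (by decide +kernel) z hr, ?_⟩
  rw [map_mul, map_mul, cj_term (show Term 18 14 19 (-1) by decide +kernel),
    cj_comm (r := 18) (s := 19) (by decide +kernel), mul_assoc (X 14 β), X_add]
  congr 3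
  push_cast
  ring

theorem P19.cjStep {n m k : Fin 24} {e e' : ℤ} (hn : Term n 14 m e) (hk : Term n 19 k e') (hm : m ∈ R19)
    (hk' : k ∈ R19) (hs : Stab n R19) (hc : Comm 19 m) {β c : K} {g : GL chevD4.Idx K} (h : P19 β c g) (z : K) :
    P19 β c (cj n z g) := by
  obtain ⟨r, hr, rfl⟩ := h
  refine ⟨X m ((e : K) * z * β) * (X k ((e' : K) * z * c) * cj n z r),
    mul_mem (X_mem_U hm _) (mul_mem (X_mem_U hk' _) (by rw [cj_apply]; exact conj_U hs z hr)), ?_⟩
  rw [map_mul, map_mul, cj_term hn, cj_term hk]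
  simp only [mul_assoc]
  congr 1
  rw [← mul_assoc, ← (comm_X hc _ _).eq, mul_assoc]

theorem P19.Y7_conj {β c : K} {g : GL chevD4.Idx K} (h : P19 β c g) (t : K) :
    P19 β (c - t * β) (Δ.Y7 t * g * (Δ.Y7 t)⁻¹) := by
  rw [Δ.Y7_conj]
  refine P19.cj18 (P19.cjStep (m := 16) (k := 21) (e := 1) (e' := 1) ?_ ?_ ?_ ?_ ?_ ?_
    (P19.cjStep (m := 15) (k := 20) (e := 1) (e' := 1) ?_ ?_ ?_ ?_ ?_ ?_ h _) _) t
  all_goals decide +kernel

/-- Conjugating the lowest root element by the positive orbit. -/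
theorem Y7_conj_X1 (t e : K) : ∃ v₀ ∈ U Qn K, Δ.Y7 t * X 1 e * (Δ.Y7 t)⁻¹ = v₀ * X 9 (e * Δ.N t) := by
  rw [Δ.Y7_conj]
  simp only [map_mul, cj_term (show Term 12 1 2 (-1) by decide +kernel),
    cj_term (show Term 13 1 3 (-1) by decide +kernel), cj_term (show Term 13 2 4 (-1) by decide +kernel),
    cj_term (show Term 18 1 6 1 by decide +kernel), cj_term (show Term 18 3 8 1 by decide +kernel),
    cj_term (show Term 18 2 7 1 by decide +kernel), cj_term (show Term 18 4 9 1 by decide +kernel)]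
  simp only [← mul_assoc]
  refine ⟨_, ?_, congrArg₂ (· * ·) rfl (congrArg (X 9) ?_)⟩
  · repeat' refine mul_mem ?_ ?_
    all_goals exact X_mem_U (by decide) _
  · push_cast
    rw [N]
    ring

end Env

end Cfsg.Agent.Lib.D4Gauss
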