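import Cfsg.Agent.Lib.D4Gauss.Env

/-!
The torus, the two rank one subgroups and the Levi subgroup of the fixed simple root in ³D₄(q).
-/

set_option autoImplicit false
set_option maxRecDepth 100000
set_option linter.unusedSectionVars false

namespace Cfsg.Agent.Lib.D4Gauss

open Cfsg.Lie Cfsg.Agent.Lib.ChevStructure
open Cfsg.Agent.Lib.LieTwisted Cfsg.Agent.Lib.LieTwisted.Twist
open Cfsg.Agent.Lib.G2Gauss (dconj sl_induction sl_hom_ext slPart dg det_dg)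
open scoped MatrixGroups Matrix

section Field

variable {K : Type*} [Field K]

/-- A tuple indexed by the four nodes. -/
def v4 {α : Type*} (a b c d : α) : Fin chevD4.rank → α := ![a, b, c, d]

@[simp] theorem v4_0 {α : Type*} (a b c d : α) (h : 0 < chevD4.rank) : v4 a b c d ⟨0, h⟩ = a := rfl
@[simp] theorem v4_1 {α : Type*} (a b c d : α) (h : 1 < chevD4.rank) : v4 a b c d ⟨1, h⟩ = b := rfl
@[simp] theorem v4_2 {α : Type*} (a b c d : α) (h : 2 < chevD4.rank) : v4 a b c d ⟨2, h⟩ = c := rfl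
@[simp] theorem v4_3 {α : Type*} (a b c d : α) (h : 3 < chevD4.rank) : v4 a b c d ⟨3, h⟩ = d := rfl

theorem node_cases (j : Fin chevD4.rank) : j = ⟨0, by decide⟩ ∨ j = ⟨1, by decide⟩ ∨ j = ⟨2, by decide⟩ ∨
    j = ⟨3, by decide⟩ := by
  revert j; decide

/-- A torus element by its four coordinates. -/
noncomputable def HT4 (a b c d : Kˣ) : GL chevD4.Idx K := HT (v4 a b c d)

theorem HT4_mul (a b c d a' b' c' d' : Kˣ) :
    HT4 a b c d * HT4 a' b' c' d' = HT4 (a * a') (b * b') (c * c') (d * d') := by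
  rw [HT4, HT4, HT4, HT_mul]
  congr 1
  funext j
  obtain rfl | rfl | rfl | rfl := node_cases j <;> simp

theorem chA4 (n : Fin 24) (r : Fin chevD4.rank → ℤ) (h : ∀ j, A chevD4 j (rt n) = r j) (a b c d : Kˣ) :
    chA n (v4 a b c d) =
      a ^ r ⟨0, by decide⟩ * b ^ r ⟨1, by decide⟩ * c ^ r ⟨2, by decide⟩ * d ^ r ⟨3, by decide⟩ := by
  rw [← h, ← h, ← h, ← h]
  exact Fin.prod_univ_four fun j : Fin chevD4.rank => (v4 (a) (b) (c) (d)) j ^ A chevD4 j (rt n)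

theorem nR_HT4 (n : Fin 24) (r s : Fin chevD4.rank → ℤ) (hA : ∀ j, A chevD4 j (rt n) = r j)
    (hco : ∀ j, co chevD4 (rt n) j = s j) (a b c d : Kˣ) (χ : Kˣ) (hχ :
      χ = (a ^ r ⟨0, by decide⟩ * b ^ r ⟨1, by decide⟩ * c ^ r ⟨2, by decide⟩ * d ^ r ⟨3, by decide⟩)⁻¹) :
    phi n (slN 1) * HT4 a b c d = HT4 (a * χ ^ s ⟨0, by decide⟩) (b * χ ^ s ⟨1, by decide⟩)
      (c * χ ^ s ⟨2, by decide⟩) (d * χ ^ s ⟨3, by decide⟩) * phi n (slN 1) := by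
  rw [HT4, nR_HT, chA4 n r hA, ← hχ]
  congr 2
  funext j
  obtain rfl | rfl | rfl | rfl := node_cases j <;> simp [hco]

theorem map_slU {L : Type*} [Field L] (f : K →+* L) (t : K) :
    Matrix.SpecialLinearGroup.map f (slU t) = slU (f t) := by
  refine Subtype.ext ?_
  ext i j
  fin_cases i <;> fin_cases j <;> simp [slU_val]

theorem map_slL {L : Type*} [Field L] (f : K →+* L) (t : K) :
    Matrix.SpecialLinearGroup.map f (slL t) = slL (f t) := by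
  refine Subtype.ext ?_
  ext i j
  fin_cases i <;> fin_cases j <;> simp [slL_val]

theorem map_slN {L : Type*} [Field L] (f : K →+* L) (u : Kˣ) :
    Matrix.SpecialLinearGroup.map f (slN u) = slN (Units.map (f : K →* L) u) := by
  simp [slN, map_slU, map_slL]

theorem map_slH {L : Type*} [Field L] (f : K →+* L) (u : Kˣ) :
    Matrix.SpecialLinearGroup.map f (slH u) = slH (Units.map (f : K →* L) u) := by
  have : Units.map (f : K →* L) (-1) = -1 := Units.ext (by simp)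
  simp [slH, map_slN, this]

end Field

namespace Env

variable {K : Type*} [Field K] [Fintype K] (Δ : Env K)

/-- A unit of the fixed field in the big field. -/
noncomputable def ι : (Δ.E)ˣ →* Kˣ := Units.map (Δ.E.subtype : Δ.E →* K)

theorem ι_val (y : (Δ.E)ˣ) : ((Δ.ι y : Kˣ) : K) = ((y : Δ.E) : K) := rfl

theorem ι_inj {y z : (Δ.E)ˣ} (h : Δ.ι y = Δ.ι z) : y = z :=
  Units.ext (Subtype.ext (congrArg Units.val h))

theorem φu_ι (y : (Δ.E)ˣ) : Δ.φu (Δ.ι y) = Δ.ι y := Units.ext (Δ.φ_E _)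

theorem φu3 (x : Kˣ) : Δ.φu (Δ.φu (Δ.φu x)) = x := Units.ext (Δ.φ3 _)

/-- The torus. -/
noncomputable def T (x : Kˣ) (y : (Δ.E)ˣ) : GL chevD4.Idx K := HT4 x (Δ.ι y) (Δ.φu x) (Δ.φu (Δ.φu x))

theorem T_mul (x x' : Kˣ) (y y' : (Δ.E)ˣ) : Δ.T x y * Δ.T x' y' = Δ.T (x * x') (y * y') := by
  rw [T, T, T, HT4_mul]
  simp only [map_mul]

theorem T_one : Δ.T 1 1 = 1 := by
  have h := Δ.T_mul 1 1 1 1
  rw [one_mul, one_mul] at h
  exact mul_eq_left.1 h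

theorem T_mem (x : Kˣ) (y : (Δ.E)ˣ) : Δ.T x y ∈ Δ.W := by
  refine Δ.O.tw.diag_mem _ (C.HT_mem_diagonal _) ?_
  show Δ.O.Θ (C.HT K _) = C.HT K _
  rw [Δ.O.Θ_HT]
  have hm : (v4 (x) (Δ.ι y) (Δ.φu x) (Δ.φu (Δ.φu x))) ∈ Δ.O.TF :=
    (D4.mem_TF Δ.F Δ.hq1 Δ.hK _).2 ⟨Δ.φu_ι y, rfl, rfl⟩
  exact congrArg (C.HT K) hm

/-- The character of a torus element at a root. -/
noncomputable def χ (n : Fin 24) (x : Kˣ) (y : (Δ.E)ˣ) : Kˣ :=
  chA n (v4 x (Δ.ι y) (Δ.φu x) (Δ.φu (Δ.φu x)))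

theorem χ_eq (n : Fin 24) (r : Fin chevD4.rank → ℤ) (h : ∀ j, A chevD4 j (rt n) = r j) (x : Kˣ) (y : (Δ.E)ˣ) :
    Δ.χ n x y = x ^ r ⟨0, by decide⟩ * Δ.ι y ^ r ⟨1, by decide⟩ * Δ.φu x ^ r ⟨2, by decide⟩ *
      Δ.φu (Δ.φu x) ^ r ⟨3, by decide⟩ :=
  chA4 n r h _ _ _ _

theorem T_X (n : Fin 24) (x : Kˣ) (y : (Δ.E)ˣ) (t : K) :
    Δ.T x y * X n t = X n ((Δ.χ n x y : K) * t) * Δ.T x y := HT_X n _ t

theorem X_T (n : Fin 24) (x : Kˣ) (y : (Δ.E)ˣ) (t : K) :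
    X n t * Δ.T x y = Δ.T x y * X n (((Δ.χ n x y)⁻¹ : Kˣ) * t : K) := X_HT n _ t

theorem T_conj_U (S : Finset (Fin 24)) (x : Kˣ) (y : (Δ.E)ˣ) {g : GL chevD4.Idx K} (hg : g ∈ U S K) :
    Δ.T x y * g * (Δ.T x y)⁻¹ ∈ U S K := HT_conj_U S _ hg

theorem T_conj_U' (S : Finset (Fin 24)) (x : Kˣ) (y : (Δ.E)ˣ) {g : GL chevD4.Idx K} (hg : g ∈ U S K) :
    (Δ.T x y)⁻¹ * g * Δ.T x y ∈ U S K := HT_conj_U' S _ hg

theorem T_conj_V' (S : Finset (Fin 24)) (x : Kˣ) (y : (Δ.E)ˣ) {g : GL chevD4.Idx K} (hg : g ∈ Δ.V S) :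
    (Δ.T x y)⁻¹ * g * Δ.T x y ∈ Δ.V S :=
  ⟨Δ.T_conj_U' S x y (Δ.V_U hg), Δ.W.mul_mem (Δ.W.mul_mem (Δ.W.inv_mem (Δ.T_mem x y)) (Δ.V_W hg)) (Δ.T_mem x y)⟩

theorem T_Orb (a : Fin 24) (x : Kˣ) (y : (Δ.E)ˣ) (t : K) :
    Δ.T x y * Δ.Orb a t = Δ.Orb a ((Δ.χ a x y : K) * t) * Δ.T x y := by
  have h1 := Δ.T_X a x y t
  have h2 := congrArg Δ.τ h1
  rw [map_mul, map_mul, Δ.τ_eq (Δ.T_mem x y)] at h2
  have h3 := congrArg Δ.τ h2
  rw [map_mul, map_mul, Δ.τ_eq (Δ.T_mem x y)] at h3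
  rw [Orb, Orb, ← mul_assoc, ← mul_assoc, h1, mul_assoc (X a _) (Δ.T x y), h2, ← mul_assoc,
    mul_assoc _ (Δ.T x y), h3, ← mul_assoc]

theorem Orb_T (a : Fin 24) (x : Kˣ) (y : (Δ.E)ˣ) (t : K) :
    Δ.Orb a t * Δ.T x y = Δ.T x y * Δ.Orb a (((Δ.χ a x y)⁻¹ : Kˣ) * t : K) := by
  rw [Δ.T_Orb, ← mul_assoc, Units.mul_inv, one_mul]

/-! ### The rank one group of the orbit of three simple roots -/

/-- The element of the positive orbit of three simple roots. -/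
noncomputable def Y7 (t : K) : GL chevD4.Idx K := Δ.Orb 18 t

/-- The element of the negative orbit. -/
noncomputable def Y4 (t : K) : GL chevD4.Idx K := Δ.Orb 5 t

theorem Y7_eq (t : K) : Δ.Y7 t = X 18 t * X 13 (Δ.φ t) * X 12 (Δ.φ (Δ.φ t)) := by
  obtain ⟨h1, h2, h3, h4⟩ : pi 18 = 13 ∧ pi 13 = 12 ∧ eps 18 = 1 ∧ eps 13 = 1 := by decide
  rw [Y7, Δ.Orb_eq, h1, h2, h3, h4]
  simp

theorem Y4_eq (t : K) : Δ.Y4 t = X 5 t * X 10 (Δ.φ t) * X 11 (Δ.φ (Δ.φ t)) := by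
  obtain ⟨h1, h2, h3, h4⟩ : pi 5 = 10 ∧ pi 10 = 11 ∧ eps 5 = 1 ∧ eps 10 = 1 := by decide
  rw [Y4, Δ.Orb_eq, h1, h2, h3, h4]
  simp

/-- The homomorphism SL₂ → ⟨Y7, Y4⟩. -/
noncomputable def phi7 : Matrix.SpecialLinearGroup (Fin 2) K →* GL chevD4.Idx K :=
  MonoidHom.mk' (fun S => phi 18 S * phi 13 (Matrix.SpecialLinearGroup.map (Δ.φ : K →+* K) S) *
      phi 12 (Matrix.SpecialLinearGroup.map ((Δ.φ : K →+* K).comp (Δ.φ : K →+* K)) S))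
    (fun S R => by
      simp only [map_mul]
      set a := phi 18 S
      set a' := phi 18 R
      set b := phi 13 (Matrix.SpecialLinearGroup.map (Δ.φ : K →+* K) S)
      set b' := phi 13 (Matrix.SpecialLinearGroup.map (Δ.φ : K →+* K) R)
      set c := phi 12 (Matrix.SpecialLinearGroup.map ((Δ.φ : K →+* K).comp (Δ.φ : K →+* K)) S)
      set c' := phi 12 (Matrix.SpecialLinearGroup.map ((Δ.φ : K →+* K).comp (Δ.φ : K →+* K)) R)
      have h1 : Commute a' b := phi_comm (r := 18) (s := 13) (by decide +kernel) _ _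
      have h2 : Commute a' c := phi_comm (r := 18) (s := 12) (by decide +kernel) _ _
      have h3 : Commute b' c := phi_comm (r := 13) (s := 12) (by decide +kernel) _ _
      calc a * a' * (b * b') * (c * c') = a * (a' * b) * (b' * c) * c' := by simp only [mul_assoc]
        _ = a * b * (a' * c) * (b' * c') := by rw [h1.eq, h3.eq]; simp only [mul_assoc]
        _ = _ := by rw [h2.eq]; simp only [mul_assoc])

theorem phi7_U (t : K) : Δ.phi7 (slU t) = Δ.Y7 t := by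
  show phi 18 _ * phi 13 _ * phi 12 _ = _
  rw [map_slU, map_slU, phi_U, phi_U, phi_U, Δ.Y7_eq]
  rfl

theorem phi7_L (t : K) : Δ.phi7 (slL t) = Δ.Y4 t := by
  show phi 18 _ * phi 13 _ * phi 12 _ = _
  rw [map_slL, map_slL, phi_L, phi_L, phi_L, Δ.Y4_eq]
  rfl

theorem Y7_mem (t : K) : Δ.Y7 t ∈ Δ.W := Δ.Orb_mem (by decide +kernel) t

theorem Y4_mem (t : K) : Δ.Y4 t ∈ Δ.W := Δ.Orb_mem (by decide +kernel) t

theorem phi7_mem (S : Matrix.SpecialLinearGroup (Fin 2) K) : Δ.phi7 S ∈ Δ.W :=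
  sl_induction (M := Δ.W.comap Δ.phi7) (fun t => by rw [Subgroup.mem_comap, phi7_U]; exact Δ.Y7_mem t)
    (fun t => by rw [Subgroup.mem_comap, phi7_L]; exact Δ.Y4_mem t) S

theorem Y7_add (s t : K) : Δ.Y7 s * Δ.Y7 t = Δ.Y7 (s + t) := by
  rw [← phi7_U, ← phi7_U, ← phi7_U, ← map_mul]
  congr 1
  exact Subtype.ext (by simp [Matrix.SpecialLinearGroup.coe_mul, Matrix.mul_fin_two, add_comm])

theorem Y7_inv (t : K) : (Δ.Y7 t)⁻¹ = Δ.Y7 (-t) := by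
  rw [← phi7_U, ← phi7_U, ← map_inv]
  congr 1
  exact inv_eq_of_mul_eq_one_right
    (Subtype.ext (by simp [Matrix.SpecialLinearGroup.coe_mul, Matrix.mul_fin_two, Matrix.one_fin_two]))

theorem Y4_inv (t : K) : (Δ.Y4 t)⁻¹ = Δ.Y4 (-t) := by
  rw [← phi7_L, ← phi7_L, ← map_inv]
  congr 1
  exact inv_eq_of_mul_eq_one_right
    (Subtype.ext (by simp [Matrix.SpecialLinearGroup.coe_mul, Matrix.mul_fin_two, Matrix.one_fin_two]))

theorem phi7_H (x : Kˣ) : Δ.phi7 (slH x) = Δ.T x 1 := by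
  show phi 18 _ * phi 13 _ * phi 12 _ = _
  rw [map_slH, map_slH, phi_H, phi_H, phi_H, HT_mul, HT_mul, T, HT4]
  congr 1
  funext j
  have key : ∀ j : Fin chevD4.rank, co chevD4 (rt 18) j = (v4 (1) (0) (0) (0)) j ∧
      co chevD4 (rt 13) j = (v4 (0) (0) (1) (0)) j ∧
      co chevD4 (rt 12) j = (v4 (0) (0) (0) (1)) j := by decide +kernel
  obtain ⟨k1, k2, k3⟩ := key j
  simp only [Pi.mul_apply, k1, k2, k3, map_one]
  obtain rfl | rfl | rfl | rfl := node_cases j <;> simp [φu] <;> rfl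

/-- Y7(t) Y4(s) = Y4(s/f) T(f,1) Y7(t/f). -/
theorem Y7_Y4 (t s : K) (f : Kˣ) (hf : (f : K) = 1 + t * s) :
    Δ.Y7 t * Δ.Y4 s = Δ.Y4 (((f⁻¹ : Kˣ) : K) * s) * Δ.T f 1 * Δ.Y7 (((f⁻¹ : Kˣ) : K) * t) := by
  rw [← Δ.phi7_U t, ← Δ.phi7_L s, ← Δ.phi7_H, ← Δ.phi7_U, ← Δ.phi7_L, ← map_mul, ← map_mul, ← map_mul]
  congr 1
  refine Subtype.ext ?_
  have h1 : (f : K) ≠ 0 := f.ne_zero
  simp only [Matrix.SpecialLinearGroup.coe_mul, slU_val, slL_val, slH_val, Matrix.mul_fin_two,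
    Units.val_inv_eq_inv_val]
  ext i j
  fin_cases i <;> fin_cases j <;> simp
  all_goals (try field_simp)
  all_goals (rw [hf]; try ring)

/-- The reflection in the orbit of three simple roots. -/
noncomputable def nA : GL chevD4.Idx K := Δ.phi7 (slN 1)

theorem nA_eq : Δ.nA = Δ.Y7 1 * Δ.Y4 (-1) * Δ.Y7 1 := by
  rw [nA, slN, map_mul, map_mul, phi7_U, phi7_L]
  simp

theorem nA_mem : Δ.nA ∈ Δ.W := Δ.phi7_mem _

theorem nA_Y7 (t : K) : Δ.nA * Δ.Y7 t * (Δ.nA)⁻¹ = Δ.Y4 (-t) := by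
  rw [nA, ← phi7_U, ← phi7_L, ← map_inv, ← map_mul, ← map_mul]
  congr 1
  rw [mul_inv_eq_iff_eq_mul]
  refine Subtype.ext ?_
  simp [Matrix.SpecialLinearGroup.coe_mul, slN_val, Matrix.mul_fin_two]

theorem nA_prod : Δ.nA = phi 18 (slN 1) * phi 13 (slN 1) * phi 12 (slN 1) := by
  show phi 18 _ * phi 13 _ * phi 12 _ = _
  simp only [map_slN, map_one]

theorem nA_T (x : Kˣ) (y : (Δ.E)ˣ) : Δ.nA * Δ.T x y = Δ.T (Δ.ι y * x⁻¹) y * Δ.nA := by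
  have hA : ∀ j : Fin chevD4.rank, A chevD4 j (rt 18) = (v4 (2) (-1) (0) (0)) j ∧
      A chevD4 j (rt 13) = (v4 (0) (-1) (2) (0)) j ∧
      A chevD4 j (rt 12) = (v4 (0) (-1) (0) (2)) j ∧
      co chevD4 (rt 18) j = (v4 (1) (0) (0) (0)) j ∧
      co chevD4 (rt 13) j = (v4 (0) (0) (1) (0)) j ∧
      co chevD4 (rt 12) j = (v4 (0) (0) (0) (1)) j := by decide +kernel
  rw [nA_prod, T, T, mul_assoc (phi 18 _ * phi 13 _), nR_HT4 12 _ _ (fun j => (hA j).2.2.1)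
    (fun j => (hA j).2.2.2.2.2) _ _ _ _ _ rfl, ← mul_assoc, mul_assoc (phi 18 _) (phi 13 _) (HT4 _ _ _ _),
    nR_HT4 13 _ _ (fun j => (hA j).2.1) (fun j => (hA j).2.2.2.2.1) _ _ _ _ _ rfl, ← mul_assoc,
    nR_HT4 18 _ _ (fun j => (hA j).1) (fun j => (hA j).2.2.2.1) _ _ _ _ _ rfl]
  simp only [mul_assoc]
  congr 1
  congr 1 <;> (refine Units.ext ?_; simp [zpow_two, φu_val, ι_val, Δ.φ_E, map_inv₀]; try field_simp)

theorem acts_nA : C.Acts Δ.nA (reflW [] ⟨0, by decide⟩ * reflW [] ⟨2, by decide⟩ * reflW [] ⟨3, by decide⟩) := by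
  rw [nA_prod]
  refine C.acts_mul K (C.acts_mul K (acts_phi ?_) (acts_phi ?_)) (acts_phi ?_) <;>
    (simp only [C.pprod_nil, Equiv.Perm.one_apply, D4.p_eq]; rfl)

/-! ### The Levi subgroup of the fixed simple root -/

/-- SL₂ over the fixed field as the rank one group of the fixed simple root. -/
noncomputable def phiE : Matrix.SpecialLinearGroup (Fin 2) Δ.E →* GL chevD4.Idx K :=
  (phi 14).comp (Matrix.SpecialLinearGroup.map Δ.E.subtype)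

theorem phiE_U (r : Δ.E) : Δ.phiE (slU r) = X 14 (r : K) := by
  show phi 14 _ = _
  rw [map_slU, phi_U]
  rfl

theorem phiE_L (r : Δ.E) : Δ.phiE (slL r) = X 9 (r : K) := by
  show phi 14 _ = _
  rw [map_slL, phi_L]
  rfl

theorem phiE_mem (S : Matrix.SpecialLinearGroup (Fin 2) Δ.E) : Δ.phiE S ∈ Δ.W :=
  sl_induction (M := Δ.W.comap Δ.phiE)
    (fun t => by rw [Subgroup.mem_comap, phiE_U]; exact Δ.X_fix_mem (by decide) t.2)
    (fun t => by rw [Subgroup.mem_comap, phiE_L]; exact Δ.X_fix_mem (by decide) t.2) S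

theorem phiE_H (y : (Δ.E)ˣ) : Δ.phiE (slH y) = Δ.T 1 y := by
  show phi 14 _ = _
  rw [map_slH, phi_H, T, HT4]
  congr 1
  funext j
  have key : ∀ j : Fin chevD4.rank, co chevD4 (rt 14) j = (v4 (0) (1) (0) (0)) j := by decide +kernel
  rw [key j]
  obtain rfl | rfl | rfl | rfl := node_cases j <;> simp [ι] <;> rfl

theorem phiE_conj_U {S : Finset (Fin 24)} (h1 : Stab 14 S) (h2 : Stab 9 S)
    (A : Matrix.SpecialLinearGroup (Fin 2) Δ.E) {g : GL chevD4.Idx K} (hg : g ∈ U S K) :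
    Δ.phiE A * g * (Δ.phiE A)⁻¹ ∈ U S K := phi_conj_U (n := 14) h1 h2 _ hg

theorem phiE_conj_V {S : Finset (Fin 24)} (h1 : Stab 14 S) (h2 : Stab 9 S)
    (A : Matrix.SpecialLinearGroup (Fin 2) Δ.E) {g : GL chevD4.Idx K} (hg : g ∈ Δ.V S) :
    Δ.phiE A * g * (Δ.phiE A)⁻¹ ∈ Δ.V S := Δ.V_conj (Δ.phiE_mem A) hg (Δ.phiE_conj_U h1 h2 A (Δ.V_U hg))

theorem χ14 (x : Kˣ) : Δ.χ 14 x 1 = (Δ.ι (Δ.nmE x))⁻¹ := by
  rw [Δ.χ_eq 14 (v4 (-1) 2 (-1) (-1)) (by decide +kernel)]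
  refine Units.ext ?_
  simp [ι_val, nmE_val, N, φu_val]
  ring

theorem T_phiE (x : Kˣ) (S : Matrix.SpecialLinearGroup (Fin 2) Δ.E) :
    Δ.T x 1 * Δ.phiE S = Δ.phiE (dconj (Δ.nmE x) S) * Δ.T x 1 := by
  have h : (chA 14 (v4 x (Δ.ι 1) (Δ.φu x) (Δ.φu (Δ.φu x))) : Kˣ) = (Δ.ι (Δ.nmE x))⁻¹ := Δ.χ14 x
  show HT _ * phi 14 _ = _
  rw [HT_phi, h, inv_inv]
  congr 1
  show phi 14 _ = phi 14 _
  congr 1
  refine Subtype.ext ?_
  show !![1, 0; 0, ((Δ.ι (Δ.nmE x) : Kˣ) : K)] * (Matrix.SpecialLinearGroup.map Δ.E.subtype S).1 *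
      !![1, 0; 0, (((Δ.ι (Δ.nmE x))⁻¹ : Kˣ) : K)] =
    (!![1, 0; 0, ((Δ.nmE x : (Δ.E)ˣ) : Δ.E)] * S.1 *
      !![1, 0; 0, (((Δ.nmE x)⁻¹ : (Δ.E)ˣ) : Δ.E)]).map Δ.E.subtype
  ext i j
  fin_cases i <;> fin_cases j <;> simp [Matrix.mul_apply, Matrix.vecMul, dotProduct, Fin.sum_univ_two, ι_val, nmE_val, mul_assoc]

/-- The element of the Levi subgroup given by g ∈ GL₂ and x with N x = det g. -/
noncomputable def psi (g : GL (Fin 2) Δ.E) (x : Kˣ) : GL chevD4.Idx K := Δ.phiE (slPart g) * Δ.T x 1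

theorem psi_mem (g : GL (Fin 2) Δ.E) (x : Kˣ) : Δ.psi g x ∈ Δ.W := Δ.W.mul_mem (Δ.phiE_mem _) (Δ.T_mem _ _)

theorem psi_mul {g h : GL (Fin 2) Δ.E} {x y : Kˣ} (hg : Matrix.GeneralLinearGroup.det g = Δ.nmE x) :
    Δ.psi (g * h) (x * y) = Δ.psi g x * Δ.psi h y := by
  have hd : slPart (g * h) = slPart g * dconj (Matrix.GeneralLinearGroup.det g) (slPart h) := by
    refine Subtype.ext ?_
    have h1 : g.1.det ≠ 0 := Matrix.GeneralLinearGroup.det_ne_zero g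
    have e : !![1, 0; 0, g.1.det⁻¹] * !![1, 0; 0, g.1.det] = 1 := by
      simp [Matrix.mul_fin_two, Matrix.one_fin_two, h1]
    have e2 : !![1, 0; 0, (g.1.det * h.1.det)⁻¹] = !![1, 0; 0, h.1.det⁻¹] * !![1, 0; 0, g.1.det⁻¹] := by
      simp [Matrix.mul_fin_two, mul_comm]
    show g.1 * h.1 * !![1, 0; 0, ((g.1 * h.1).det)⁻¹] =
      g.1 * !![1, 0; 0, g.1.det⁻¹] * (!![1, 0; 0, g.1.det] * (h.1 * !![1, 0; 0, h.1.det⁻¹]) *
        !![1, 0; 0, (((Matrix.GeneralLinearGroup.det g)⁻¹ : (Δ.E)ˣ) : Δ.E)])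
    rw [Units.val_inv_eq_inv_val, Matrix.GeneralLinearGroup.val_det_apply, Matrix.det_mul]
    rw [e2, mul_assoc g.1 h.1, mul_assoc g.1 !![1, 0; 0, g.1.det⁻¹]]
    congr 1
    simp only [← mul_assoc, e, one_mul]
  rw [psi, psi, psi, hd, hg, map_mul, ← mul_one (1 : (Δ.E)ˣ), ← Δ.T_mul, mul_one, mul_assoc _ (Δ.T x 1),
    ← mul_assoc (Δ.T x 1) (Δ.phiE _), Δ.T_phiE]
  simp only [mul_assoc]

theorem psi_of_sl (S : Matrix.SpecialLinearGroup (Fin 2) Δ.E) :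
    Δ.psi (Matrix.SpecialLinearGroup.toGL S) 1 = Δ.phiE S := by
  have hs : slPart (Matrix.SpecialLinearGroup.toGL S) = S := by
    refine Subtype.ext ?_
    show S.1 * !![1, 0; 0, S.1.det⁻¹] = S.1
    rw [S.2, inv_one, ← Matrix.one_fin_two, mul_one]
  rw [psi, hs, T_one, mul_one]

theorem psi_one : Δ.psi 1 1 = 1 := by
  rw [← map_one (Matrix.SpecialLinearGroup.toGL : Matrix.SpecialLinearGroup (Fin 2) Δ.E →* _), psi_of_sl, map_one]

theorem det_toGL (S : Matrix.SpecialLinearGroup (Fin 2) Δ.E) :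
    Matrix.GeneralLinearGroup.det (Matrix.SpecialLinearGroup.toGL S) = 1 := Units.ext (by simp [S.2])

theorem psi_dg (a b : (Δ.E)ˣ) (x : Kˣ) : Δ.psi (dg a b) x = Δ.T x a := by
  have hs : slPart (dg a b) = slH a := by
    refine Subtype.ext ?_
    simp [slPart, dg, slH_val, Matrix.mul_fin_two, Matrix.det_fin_two_of]
  rw [psi, hs, phiE_H, T_mul, one_mul, mul_one]

theorem psi_inv {g : GL (Fin 2) Δ.E} {x : Kˣ} (hg : Matrix.GeneralLinearGroup.det g = Δ.nmE x) :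
    Δ.psi g⁻¹ x⁻¹ = (Δ.psi g x)⁻¹ := by
  refine eq_inv_of_mul_eq_one_right ?_
  rw [← Δ.psi_mul hg, mul_inv_cancel, mul_inv_cancel, psi_one]

theorem psi_conj {g S : GL (Fin 2) Δ.E} {x xs : Kˣ} (hg : Matrix.GeneralLinearGroup.det g = Δ.nmE x)
    (hS : Matrix.GeneralLinearGroup.det S = Δ.nmE xs) :
    Δ.psi S xs * Δ.psi g x * (Δ.psi S xs)⁻¹ = Δ.psi (S * g * S⁻¹) x := by
  rw [← Δ.psi_inv hS, ← Δ.psi_mul hS, ← Δ.psi_mul (by rw [map_mul, map_mul, hg, hS])]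
  congr 1
  rw [mul_comm xs x, mul_inv_cancel_right]

theorem psi_conj_V {S : Finset (Fin 24)} (h1 : Stab 14 S) (h2 : Stab 9 S) (g : GL (Fin 2) Δ.E) (x : Kˣ)
    {u : GL chevD4.Idx K} (hu : u ∈ Δ.V S) : Δ.psi g x * u * (Δ.psi g x)⁻¹ ∈ Δ.V S := by
  refine Δ.V_conj (Δ.psi_mem g x) hu ?_
  have h := Δ.phiE_conj_U h1 h2 (slPart g) (Δ.T_conj_U S x 1 (Δ.V_U hu))
  rw [psi, _root_.mul_inv_rev]
  simpa [mul_assoc] using h

/-- The reflection in the fixed simple root. -/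
noncomputable def nB : GL chevD4.Idx K := Δ.phiE (slN 1)

theorem nB_eq : Δ.nB = X 14 1 * X 9 (-1) * X 14 1 := by
  rw [nB, slN, map_mul, map_mul, phiE_U, phiE_L]
  simp

theorem nB_phi : Δ.nB = phi 14 (slN 1) := by
  show phi 14 _ = _
  rw [map_slN, map_one]

theorem nB_mem : Δ.nB ∈ Δ.W := Δ.phiE_mem _

theorem nB_T (x : Kˣ) (y : (Δ.E)ˣ) : Δ.nB * Δ.T x y = Δ.T x (Δ.nmE x * y⁻¹) * Δ.nB := by
  have hA : ∀ j : Fin chevD4.rank, A chevD4 j (rt 14) = (v4 (-1) (2) (-1) (-1)) j ∧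
      co chevD4 (rt 14) j = (v4 (0) (1) (0) (0)) j := by decide +kernel
  rw [nB_phi, T, T, nR_HT4 14 _ _ (fun j => (hA j).1) (fun j => (hA j).2) _ _ _ _ _ rfl]
  congr 1
  congr 1 <;> (refine Units.ext ?_; simp [zpow_two, φu_val, ι_val, nmE_val, N]; try field_simp)

theorem acts_nB : C.Acts Δ.nB (reflW [] ⟨1, by decide⟩) := by
  rw [nB_phi]
  refine acts_phi ?_
  simp only [C.pprod_nil, Equiv.Perm.one_apply, D4.p_eq]
  rfl

/-- The norm is surjective and not injective. -/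
theorem exists_norm (y : (Δ.E)ˣ) : ∃ x : Kˣ, Δ.nmE x = y ∧ x ≠ 1 := by
  classical
  have hq := Δ.hq1
  have hker : Nat.card (Δ.nmE).ker = Δ.q ^ 2 + Δ.q + 1 := by
    have e : (Δ.nmE).ker = (powMonoidHom (Δ.q ^ 2 + Δ.q + 1) : Kˣ →* Kˣ).ker := by
      ext x
      rw [MonoidHom.mem_ker, MonoidHom.mem_ker, powMonoidHom_apply]
      have hN : Δ.N (x : K) = (x : K) ^ (Δ.q ^ 2 + Δ.q + 1) := by
        rw [N, Δ.F.apply, Δ.F.apply, ← pow_mul, pow_add, pow_add, pow_one, ← sq]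
        ring
      constructor
      · intro h
        refine Units.ext ?_
        rw [Units.val_pow_eq_pow_val, ← hN, ← nmE_val, h]
        rfl
      · intro h
        refine Δ.ι_inj (Units.ext ?_)
        rw [ι_val, nmE_val, hN, ← Units.val_pow_eq_pow_val, h, map_one]
    rw [e, IsCyclic.card_powMonoidHom_ker, Δ.F.card_units]
    refine Nat.gcd_eq_right ⟨Δ.q - 1, ?_⟩
    have h3 : 1 ≤ Δ.q ^ 3 := Nat.one_le_pow _ _ (by omega)
    zify [h3, show 1 ≤ Δ.q by omega]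
    ring
  have hrange : Nat.card (Δ.nmE).range = Nat.card (Δ.E)ˣ := by
    have h := Subgroup.card_eq_card_quotient_mul_card_subgroup (Δ.nmE).ker
    rw [Nat.card_congr (QuotientGroup.quotientKerEquivRange Δ.nmE).toEquiv, hker, Δ.F.card_units] at h
    rw [Nat.card_units, Δ.card_E]
    refine Nat.eq_of_mul_eq_mul_right (show 0 < Δ.q ^ 2 + Δ.q + 1 by positivity) ?_
    rw [← h]
    have h3 : 1 ≤ Δ.q ^ 3 := Nat.one_le_pow _ _ (by omega)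
    zify [h3, show 1 ≤ Δ.q by omega]
    ring
  obtain ⟨x, hx⟩ := MonoidHom.range_eq_top.1 (Subgroup.eq_top_of_card_eq _ hrange) y
  rcases ne_or_eq x 1 with h | rfl
  · exact ⟨x, hx, h⟩
  haveI : Nontrivial (Δ.nmE).ker := by
    rw [← Finite.one_lt_card_iff_nontrivial, hker]
    have : 0 < Δ.q ^ 2 := by positivity
    omega
  obtain ⟨k, hk⟩ := exists_ne (1 : (Δ.nmE).ker)
  refine ⟨k, ?_, fun e => hk (Subtype.ext e)⟩
  rw [← hx, map_one]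
  exact k.2

theorem exists_norm' (y : (Δ.E)ˣ) : ∃ x : Kˣ, Δ.nmE x = y := ⟨_, (Δ.exists_norm y).choose_spec.1⟩

end Env

end Cfsg.Agent.Lib.D4Gauss
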