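import Cfsg.Agent.Lib.D4Gauss.Radical

/-!
The product of the reflections in the three roots orthogonal to the central node lies in ³D₄(q), carries
the opposite radical to the radical and sends ψ(g, x) to ψ(g / det g, 1 / x).
-/

set_option autoImplicit false
set_option maxRecDepth 100000
set_option linter.unusedSectionVars false

namespace Cfsg.Agent.Lib.D4Gauss

open Cfsg.Lie Cfsg.Agent.Lib.ChevStructure
open Cfsg.Agent.Lib.LieTwisted Cfsg.Agent.Lib.LieTwisted.Twist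
open Cfsg.Agent.Lib.G2Gauss (slPart dg det_dg Irred irred_scaled trace_det_scale)
open scoped MatrixGroups Matrix

namespace Env

variable {K : Type*} [Field K] [Fintype K] (Δ : Env K)

theorem slN_neg_one : (slN (-1 : Kˣ) : Matrix.SpecialLinearGroup (Fin 2) K) = (slN 1)⁻¹ := by
  refine eq_inv_of_mul_eq_one_right (Subtype.ext ?_)
  simp [Matrix.SpecialLinearGroup.coe_mul, slN_val, Matrix.mul_fin_two, Matrix.one_fin_two]

include Δ in
theorem slN_neg_one' : (slN (-1 : Kˣ) : Matrix.SpecialLinearGroup (Fin 2) K) = slH (-1) * slN 1 := by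
  refine Subtype.ext ?_
  simp [Matrix.SpecialLinearGroup.coe_mul, slN_val, slH_val, Matrix.mul_fin_two]

/-- The product of the three orthogonal reflections. -/
noncomputable def nC : GL chevD4.Idx K :=
  phi 21 (slN 1) * phi 17 (slN (-1)) * phi 20 (slN 1)

theorem τ_phiN (n : Fin 24) (u : Kˣ) (hu : Δ.φu u = u) (v : Kˣ) (hv : (v : K) = (eps n : K) * u)
    (h : eps n * eps n.rev = 1 ∧ pi n.rev = (pi n).rev) :
    Δ.τ (phi n (slN u)) = phi (pi n) (slN v) := by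
  have huK : Δ.φ (u : K) = u := congrArg Units.val hu
  have he : (eps n : K) * (eps n.rev : K) = 1 := by rw [← Int.cast_mul, h.1, Int.cast_one]
  rw [slN, slN]
  simp only [map_mul, phi_U, phi_L, Δ.τ_X, h.2, map_neg, huK, Units.val_inv_eq_inv_val, map_inv₀, hv]
  congr 3
  have hen : (eps n : K) ≠ 0 := left_ne_zero_of_mul_eq_one he
  rw [mul_inv_rev, mul_neg, neg_inj, mul_comm (eps n.rev : K)]
  congr 1
  exact eq_inv_of_mul_eq_one_right he

theorem nC_mem : (nC : GL chevD4.Idx K) ∈ Δ.W := by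
  refine Δ.mem_W.2 ⟨mul_mem (mul_mem (phi_mem _ _) (phi_mem _ _)) (phi_mem _ _), ?_⟩
  have hm : Δ.φu (-1) = -1 := Units.ext (by simp [φu])
  have e21 : Δ.τ (phi 21 (slN 1)) = phi 17 (slN (-1)) := by
    have h := Δ.τ_phiN 21 1 (map_one _) (-1) (by rw [show eps 21 = -1 by decide]; simp) (by decide)
    rwa [show pi 21 = 17 by decide] at h
  have e17 : Δ.τ (phi 17 (slN (-1))) = phi 20 (slN 1) := by
    have h := Δ.τ_phiN 17 (-1) hm 1 (by rw [show eps 17 = -1 by decide]; simp) (by decide)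
    rwa [show pi 17 = 20 by decide] at h
  have e20 : Δ.τ (phi 20 (slN 1)) = phi 21 (slN 1) := by
    have h := Δ.τ_phiN 20 1 (map_one _) 1 (by rw [show eps 20 = 1 by decide]; simp) (by decide)
    rwa [show pi 20 = 21 by decide] at h
  rw [nC, map_mul, map_mul, e21, e17, e20]
  exact ((phi_comm (r := 21) (s := 17) (by decide +kernel) _ _).mul_right
    (phi_comm (r := 21) (s := 20) (by decide +kernel) _ _)).eq.symm.trans (mul_assoc _ _ _).symm

theorem nC_phiE (S : Matrix.SpecialLinearGroup (Fin 2) Δ.E) :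
    Commute (nC : GL chevD4.Idx K) (Δ.phiE S) := by
  show Commute (phi 21 _ * phi 17 _ * phi 20 _) (phi 14 _)
  exact ((phi_comm (by decide +kernel) _ _).mul_left (phi_comm (by decide +kernel) _ _)).mul_left
    (phi_comm (by decide +kernel) _ _)

theorem nC_T (x : Kˣ) : nC * Δ.T x 1 = Δ.T x⁻¹ (Δ.nmE x)⁻¹ * nC := by
  have hA : ∀ j : Fin chevD4.rank, A chevD4 j (rt 21) = (v4 1 0 1 (-1)) j ∧
      A chevD4 j (rt 17) = (v4 (-1) 0 1 1) j ∧ A chevD4 j (rt 20) = (v4 1 0 (-1) 1) j ∧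
      co chevD4 (rt 21) j = (v4 1 1 1 0) j ∧ co chevD4 (rt 17) j = (v4 0 1 1 1) j ∧
      co chevD4 (rt 20) j = (v4 1 1 0 1) j := by decide +kernel
  have hh : ∀ c : Fin chevD4.rank → Kˣ, ∀ a b c' d : Kˣ,
      HT c * HT4 a b c' d = HT4 a b c' d * HT c := fun c a b c' d => by
    rw [HT4, HT_mul, HT_mul, mul_comm]
  rw [nC, Δ.slN_neg_one', map_mul, phi_H, T, T, mul_assoc (phi 21 _ * _) (phi 20 _),
    nR_HT4 20 _ _ (fun j => (hA j).2.2.1) (fun j => (hA j).2.2.2.2.2) _ _ _ _ _ rfl]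
  simp only [mul_assoc]
  rw [← mul_assoc (phi 17 (slN 1)), nR_HT4 17 _ _ (fun j => (hA j).2.1) (fun j => (hA j).2.2.2.2.1) _ _ _ _ _ rfl]
  simp only [mul_assoc]
  rw [← mul_assoc (HT _) (HT4 _ _ _ _), hh, ← mul_assoc (phi 21 _), ← mul_assoc (phi 21 _),
    nR_HT4 21 _ _ (fun j => (hA j).1) (fun j => (hA j).2.2.2.1) _ _ _ _ _ rfl]
  simp only [mul_assoc]
  congr 1
  have h1 : Δ.φ (x : K) ≠ 0 := (map_ne_zero Δ.φ).2 x.ne_zero
  have h2 : Δ.φ (Δ.φ (x : K)) ≠ 0 := (map_ne_zero Δ.φ).2 h1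
  congr 1 <;> (refine Units.ext ?_; simp [φu_val, ι_val, nmE_val, N]; try field_simp)

theorem nC_conj_Qn {u : GL chevD4.Idx K} (hu : u ∈ U Qn K) : nC * u * (nC)⁻¹ ∈ U Qb K := by
  have h17 : C.Acts (phi 17 (slN (-1 : Kˣ))) (reflW [⟨3, by decide⟩, ⟨1, by decide⟩] ⟨2, by decide⟩)⁻¹ := by
    rw [slN_neg_one, map_inv]
    refine C.acts_inv K (acts_phi ?_)
    simp only [D4.p_eq]
    decide +kernel
  refine acts_conj_U (C.acts_mul K (C.acts_mul K
    (acts_phi (L := [⟨2, by decide⟩, ⟨1, by decide⟩]) (i := ⟨0, by decide⟩) ?_) h17)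
    (acts_phi (L := [⟨3, by decide⟩, ⟨1, by decide⟩]) (i := ⟨0, by decide⟩) ?_)) ?_ hu
  · simp only [D4.p_eq]; decide +kernel
  · simp only [D4.p_eq]; decide +kernel
  · unfold reflW
    decide +kernel

theorem nC_psi {g : GL (Fin 2) Δ.E} {x : Kˣ} (hd : Matrix.GeneralLinearGroup.det g = Δ.nmE x) :
    nC * Δ.psi g x * (nC)⁻¹ = Δ.psi
      (g * dg (Matrix.GeneralLinearGroup.det g)⁻¹ (Matrix.GeneralLinearGroup.det g)⁻¹) x⁻¹ := by
  set d := Matrix.GeneralLinearGroup.det g with hdd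
  have hs : slPart (g * dg d⁻¹ d⁻¹) = slPart g * slH d⁻¹ := by
    refine Subtype.ext ?_
    have h1 : g.1.det ≠ 0 := Matrix.GeneralLinearGroup.det_ne_zero g
    have e1 : g.1.det = (d : Δ.E) := by simp [hdd]
    rw [Matrix.SpecialLinearGroup.coe_mul, slH_val]
    show (g * dg d⁻¹ d⁻¹).1 * !![1, 0; 0, ((g * dg d⁻¹ d⁻¹).1.det)⁻¹] = g.1 * !![1, 0; 0, g.1.det⁻¹] * _
    rw [(trace_det_scale g).2, inv_inv, Units.val_mul, mul_assoc, mul_assoc]
    congr 1
    simp [dg, Matrix.mul_fin_two, e1, h1]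
  rw [psi, psi, hs, map_mul, phiE_H, mul_assoc (Δ.phiE _) (Δ.T 1 _), T_mul, one_mul, mul_one, ← hd.symm,
    ← mul_assoc nC, (Δ.nC_phiE _).eq, mul_assoc _ nC, Δ.nC_T]
  simp only [← hd, ← hdd]
  group

/-- No fixed points on the opposite radical. -/
theorem eq_one_of_commute_Qn {g : GL (Fin 2) Δ.E} (hg : Irred g) {x : Kˣ}
    (hd : Matrix.GeneralLinearGroup.det g = Δ.nmE x) (hx : x ≠ 1) {u : GL chevD4.Idx K} (hu : u ∈ U Qn K)
    (hc : Commute (Δ.psi g x) u) : u = 1 := by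
  obtain ⟨e1, e2⟩ := trace_det_scale g
  have h := Δ.eq_one_of_commute_Qb (irred_scaled hg e1 e2) (x := x⁻¹)
    (by rw [map_mul, det_dg, hd, map_inv]; group) (fun h => hx (inv_eq_one.1 h)) (nC_conj_Qn hu)
    (by
      rw [← Δ.nC_psi hd]
      exact (Commute.conj_iff nC).2 hc)
  exact conj_eq_one_iff.1 h

end Env

end Cfsg.Agent.Lib.D4Gauss
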