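import Cfsg.Agent.Lib.D4Gauss.Cases
import Cfsg.Agent.Lib.D4Gauss.Opp
import Cfsg.Agent.Lib.D4Gauss.FlagTrace
import Cfsg.Agent.Lib.LieTwisted.Twist.TwRankOne

/-!
Every element of ³D₄(q) is conjugate to v φ(A) q with v in the opposite radical, q in the radical and
A ∈ SL₂(q) either 1 or non-scalar of trace different from 2.
-/

set_option autoImplicit false
set_option maxRecDepth 100000
set_option linter.unusedSectionVars false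

namespace Cfsg.Agent.Lib.D4Gauss

open Cfsg.Lie Cfsg.Agent.Lib.ChevStructure
open Cfsg.Agent.Lib.LieTwisted Cfsg.Agent.Lib.LieTwisted.Twist
open Cfsg.Agent.Lib.PSp4Class (NonScalar nonScalar_of_irred exists_similar)
open Cfsg.Agent.Lib.G2Gauss (slPart dg det_dg Irred exists_conj_of_free)
open scoped MatrixGroups Matrix

namespace Env

variable {K : Type*} [Field K] [Fintype K] (Δ : Env K)

theorem E_of_X {n : Fin 24} (h : pi n = n ∧ eps n = 1) {t : K} (ht : X n t ∈ Δ.W) : t ∈ Δ.E := by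
  have e := Δ.τ_eq ht
  rw [Δ.τ_X, h.1, h.2, Int.cast_one, one_mul] at e
  have e' : X n (Δ.φ t - t) = 1 := by
    rw [show Δ.φ t - t = Δ.φ t + -t by ring, ← X_add, e, X_add, add_neg_cancel, X_zero]
  exact Δ.mem_E.2 (sub_eq_zero.1 (C.X_eq_one e'))

theorem exists_nA_fix {n m : Fin 24} (hn : pi n = n ∧ eps n = 1) (hm : pi m = m ∧ eps m = 1)
    (h : (reflW [] ⟨0, by decide⟩ * reflW [] ⟨2, by decide⟩ * reflW [] ⟨3, by decide⟩ :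
      Equiv.Perm (Rt chevD4)) (rt n) = rt m) :
    ∃ e ∈ Δ.E, e ≠ 0 ∧ ∀ t : K, Δ.nA * X n t * Δ.nA⁻¹ = X m (e * t) := by
  obtain ⟨e, he⟩ := acts_X Δ.acts_nA n m h
  refine ⟨e, Δ.E_of_X hm ?_, e.ne_zero, he⟩
  have := he 1
  rw [mul_one] at this
  rw [← this]
  exact Δ.W.mul_mem (Δ.W.mul_mem Δ.nA_mem (Δ.X_fix_mem hn Δ.E.one_mem)) (Δ.W.inv_mem Δ.nA_mem)

/-- The case of a triangular middle part in the Levi subgroup. -/
theorem good_tri (a d : (Δ.E)ˣ) (b : Δ.E) {x : Kˣ} (h : a * d = Δ.nmE x) {q : GL chevD4.Idx K}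
    (hq : q ∈ Δ.V Qb) : Δ.Good (Δ.psi (dg a d * Matrix.SpecialLinearGroup.toGL (slU b)) x * q) := by
  rw [show Δ.psi (dg a d * Matrix.SpecialLinearGroup.toGL (slU b)) x = Δ.T x a * X 14 (b : K) by
    conv_lhs => rw [← mul_one x, Δ.psi_mul (by rw [det_dg, h]), psi_dg, psi_of_sl, phiE_U], mul_assoc]
  exact Δ.good_B x a (mul_mem (Δ.X_fix_mem_V (by decide) (by decide) b.2) (Δ.V_mono (S := Qb) (by decide) hq))

theorem good_D (N : GL (Fin 2) Δ.E) {x : Kˣ} (hd : Matrix.GeneralLinearGroup.det N = Δ.nmE x)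
    {q : GL chevD4.Idx K} (hq : q ∈ Δ.V Qb) : Δ.Good (Δ.psi N x * q) := by
  haveI : Finite (Matrix chevD4.Idx chevD4.Idx K) := inferInstanceAs (Finite (chevD4.Idx → chevD4.Idx → K))
  haveI : Finite (GL chevD4.Idx K) :=
    Finite.of_injective (fun g : GL chevD4.Idx K => g.1) (fun g h e => Units.ext e)
  have conjN : ∀ (S M : GL (Fin 2) Δ.E), S * N * S⁻¹ = M →
      (∀ q' ∈ Δ.V Qb, Δ.Good (Δ.psi M x * q')) → Δ.Good (Δ.psi N x * q) := by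
    intro S M e h
    obtain ⟨xs, hxs⟩ := Δ.exists_norm' (Matrix.GeneralLinearGroup.det S)
    refine Good.of_conj' (Δ.psi_mem S xs) ?_
      (h _ (Δ.psi_conj_V (S := Qb) (by decide +kernel) (by decide +kernel) S xs hq))
    rw [← e, ← Δ.psi_conj hd hxs.symm]; group
  by_cases hroot : ∃ r : Δ.E, r * r - N.1.trace * r + N.1.det = 0
  · obtain ⟨r, hr⟩ := hroot
    -- upper triangular case
    suffices h : ∀ (a d : (Δ.E)ˣ) (b : Δ.E) (S : GL (Fin 2) Δ.E),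
        S * N * S⁻¹ = dg a d * Matrix.SpecialLinearGroup.toGL (slU b) → Δ.Good (Δ.psi N x * q) by
      have hd : N.1.det ≠ 0 := Matrix.GeneralLinearGroup.det_ne_zero N
      by_cases h10 : N.1 1 0 = 0
      · have h00 : N.1 0 0 ≠ 0 := fun e => hd (by rw [Matrix.det_fin_two, e, h10]; ring)
        have h11 : N.1 1 1 ≠ 0 := fun e => hd (by rw [Matrix.det_fin_two, e, h10]; ring)
        refine h (Units.mk0 _ h00) (Units.mk0 _ h11) (N.1 0 1 / N.1 0 0) 1 (Units.ext ?_)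
        rw [one_mul, inv_one, mul_one]
        ext i j
        have h00' : ((N.1 0 0 : Δ.E) : K) ≠ 0 := fun e => h00 (Subtype.ext e)
        fin_cases i <;> fin_cases j <;> simp [dg, Matrix.mul_fin_two, h10]
        field_simp
      · have hr0 : r ≠ 0 := fun e => hd (by rw [e] at hr; linear_combination hr)
        have hd0 : N.1.trace - r ≠ 0 := fun e => hd (by linear_combination hr + r * e)
        let P : Matrix (Fin 2) (Fin 2) Δ.E := !![r - N.1 1 1, 1; N.1 1 0, 0]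
        have hP : P.det ≠ 0 := by simpa [P, Matrix.det_fin_two_of] using h10
        obtain ⟨S, hS⟩ := Cfsg.Agent.Lib.PSp4Class.exists_GL hP
        refine h (Units.mk0 r hr0) (Units.mk0 _ hd0) (1 / r) S⁻¹ ?_
        rw [inv_inv, mul_assoc, inv_mul_eq_iff_eq_mul]
        refine Units.ext ?_
        rw [Units.val_mul, Units.val_mul, Units.val_mul, hS]
        rw [Matrix.trace_fin_two, Matrix.det_fin_two] at hr
        have hrK := congrArg (fun z : Δ.E => (z : K)) hr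
        push_cast at hrK
        ext i j
        fin_cases i <;> fin_cases j <;>
          simp [P, dg, Matrix.mul_apply, Fin.sum_univ_two, Matrix.trace_fin_two, hr0]
        all_goals (try field_simp)
        all_goals first | linear_combination -hrK | linear_combination hrK | ring
    intro a d b S e
    refine conjN S _ e fun q' hq' => Δ.good_tri a d b ?_ hq'
    have := congrArg Matrix.GeneralLinearGroup.det e
    rw [map_mul, map_mul, map_inv, mul_inv_cancel_comm, hd, map_mul, det_dg, det_toGL, mul_one] at this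
    exact this.symm
  simp only [not_exists] at hroot
  by_cases hx : x = 1
  · subst hx
    have h1 : Matrix.GeneralLinearGroup.det N = 1 := by rw [hd, map_one]
    have hdet : N.1.det = 1 := by simpa using congrArg Units.val h1
    have hval : (slPart N).1 = N.1 := by
      show N.1 * !![1, 0; 0, N.1.det⁻¹] = N.1
      rw [hdet, inv_one, ← Matrix.one_fin_two, mul_one]
    refine ⟨1, one_mem _, 1, one_mem _, q, hq, slPart N, Or.inr ?_, by simp [psi, T_one]⟩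
    rw [hval]
    refine ⟨nonScalar_of_irred hroot, fun e => hroot 1 ?_⟩
    rw [e, hdet]; ring
  -- all elements psi(N, x) times the radical are conjugate
  have free : ∀ M : GL (Fin 2) Δ.E, Irred M → Matrix.GeneralLinearGroup.det M = Δ.nmE x → ∀ q' ∈ Δ.V Qb,
      ∃ p ∈ Δ.W, Δ.psi M x * q' = p * Δ.psi M x * p⁻¹ := by
    intro M hM hMd q' hq'
    obtain ⟨p, hp, e⟩ := exists_conj_of_free (Δ.V Qb) (x := Δ.psi M x)
      (fun p hp => Δ.psi_conj_V (by decide +kernel) (by decide +kernel) M x hp)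
      (fun p hp hc => Δ.eq_one_of_commute_Qb hM hMd hx (Δ.V_U hp) hc)
      (Δ.psi_conj_V (S := Qb) (by decide +kernel) (by decide +kernel) M x hq')
    rw [inv_mul_cancel_right] at e
    exact ⟨p, Δ.V_W hp, e⟩
  set δ := Matrix.GeneralLinearGroup.det N with hδdef
  set β := N.1.trace - 1 - (δ : Δ.E) with hβdef
  have hdet : (δ : Δ.E) = N.1.det := by simp [hδdef]
  set M : GL (Fin 2) Δ.E := Matrix.SpecialLinearGroup.toGL (slL 1) * dg 1 δ *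
    Matrix.SpecialLinearGroup.toGL (slU β)
  have hMv : M.1 = !![1, β; 1, β + (δ : Δ.E)] := by
    show (slL (1 : Δ.E)).1 * !![((1 : (Δ.E)ˣ) : Δ.E), 0; 0, (δ : Δ.E)] * (slU β).1 = _
    simp [Matrix.mul_fin_two]
  have hM1 : NonScalar M.1 := Or.inr (Or.inl (by rw [hMv]; simp))
  have hM2 : M.1.trace = N.1.trace := by rw [hMv, Matrix.trace_fin_two_of, hβdef]; ring
  have hM3 : M.1.det = N.1.det := by rw [hMv, Matrix.det_fin_two_of, ← hdet]; ring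
  have hMd : Matrix.GeneralLinearGroup.det M = Δ.nmE x := by
    rw [← hd]
    exact Units.ext (by simpa [hδdef] using hM3)
  obtain ⟨S, hS⟩ := exists_similar hM1 (nonScalar_of_irred hroot) hM2 hM3
  obtain ⟨xs, hxs⟩ := Δ.exists_norm' (Matrix.GeneralLinearGroup.det S)
  have hMi : Irred M := fun r => by rw [hM2, hM3]; exact hroot r
  suffices hgood : ∃ q' ∈ Δ.V Qb, Δ.Good (Δ.psi M x * q') by
    obtain ⟨q', hq', hg⟩ := hgood
    obtain ⟨p', hp', e'⟩ := free M hMi hMd q' hq'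
    obtain ⟨p, hp, e⟩ := free N hroot hd q hq
    have h1 : Δ.Good (Δ.psi M x) := Good.of_conj' hp' e'.symm hg
    have h2 : Δ.Good (Δ.psi N x) := by
      refine Good.of_conj' (Δ.psi_mem S xs) ?_ h1
      rw [Δ.psi_conj hd hxs.symm, ← hS]
    refine Good.of_conj' (Δ.W.inv_mem hp) ?_ h2
    rw [e]; group
  have hM : Δ.psi M x = X 9 1 * Δ.T x 1 * X 14 (β : K) := by
    rw [show x = 1 * x * 1 by rw [one_mul, mul_one], Δ.psi_mul (by rw [map_mul, det_toGL, det_dg, one_mul, one_mul, map_mul, map_one, one_mul, hd]),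
      Δ.psi_mul (by rw [det_toGL, map_one]), psi_of_sl, psi_of_sl, psi_dg, phiE_L, phiE_U]
    simp
  obtain ⟨e1, he1, -, h1⟩ := Δ.exists_nA_fix (n := 9) (m := 1) (by decide) (by decide)
    (by unfold reflW; decide +kernel)
  obtain ⟨e2, he2, -, h2⟩ := Δ.exists_nA_fix (n := 14) (m := 22) (by decide) (by decide)
    (by unfold reflW; decide +kernel)
  obtain ⟨e3, he3, he30, h3⟩ := Δ.exists_nA_fix (n := 22) (m := 14) (by decide) (by decide)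
    (by unfold reflW; decide +kernel)
  set x' : Kˣ := x⁻¹
  set s : K := (Δ.χ 5 x' 1 : K) * -1 with hs_def
  have hs : s ≠ 0 := mul_ne_zero (Units.ne_zero _) (neg_ne_zero.2 one_ne_zero)
  obtain ⟨t, s', hs', r', t', esh⟩ := Δ.shift hs 0 x' 1
  rw [show ((0 : Δ.E) : K) = 0 from rfl, X_zero, mul_one] at esh
  set r1 : Δ.E := ⟨e1 * Δ.N t, mul_mem he1 (Δ.N_mem t)⟩
  obtain ⟨κ, hκ⟩ := Δ.good_of_middle (r1 + r') 1
  set a : K := e2 * (β : K) with ha_def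
  have ha : a ∈ Δ.E := mul_mem he2 β.2
  set δ0 : K := ((κ : K) - Δ.N (-1) * a) / e3 with hδ0_def
  have hδ0 : δ0 ∈ Δ.E := div_mem (sub_mem κ.2 (mul_mem (Δ.N_mem _) ha)) he3
  have h22 : ∀ t ∈ Δ.E, X 22 t ∈ Δ.V Qb := fun t ht => Δ.X_fix_mem_V (by decide) (by decide) ht
  refine ⟨Δ.Y7 1 * X 22 δ0,
    mul_mem (Δ.Orb_mem_V (by decide +kernel) (by decide) (by decide) (by decide) 1) (h22 δ0 hδ0), ?_⟩
  set w := Δ.Y4 1 * X 22 a * Δ.Y4 (-1) with hw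
  set u := w * X 14 (e3 * δ0) with hu_def
  obtain ⟨hwU, hkw⟩ := Δ.kap_Y4_X22 (-1) a
  rw [neg_neg, ← hw] at hwU hkw
  have hwV : w ∈ Δ.V Pos := ⟨hwU, Δ.W.mul_mem (Δ.W.mul_mem (Δ.Y4_mem _) (Δ.V_W (h22 a ha))) (Δ.Y4_mem _)⟩
  have h14V : X 14 (e3 * δ0) ∈ Δ.V Pos := Δ.X_fix_mem_V (by decide) (by decide) (mul_mem he3 hδ0)
  have huV : u ∈ Δ.V Pos := mul_mem hwV h14V
  refine Good.of_conj' Δ.nA_mem (g' := X 1 e1 * (Δ.Y4 s * Δ.T x' 1) * u) ?_ ?_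
  · have hT : Δ.nA * Δ.T x 1 * Δ.nA⁻¹ = Δ.T x' 1 := by
      rw [Δ.nA_T, map_one, one_mul, mul_inv_cancel_right]
    calc Δ.nA * (Δ.psi M x * (Δ.Y7 1 * X 22 δ0)) * Δ.nA⁻¹
        = (Δ.nA * X 9 1 * Δ.nA⁻¹) * (Δ.nA * Δ.T x 1 * Δ.nA⁻¹) * (Δ.nA * X 14 (β : K) * Δ.nA⁻¹) *
          (Δ.nA * Δ.Y7 1 * Δ.nA⁻¹) * (Δ.nA * X 22 δ0 * Δ.nA⁻¹) := by rw [hM]; group
      _ = X 1 e1 * Δ.T x' 1 * X 22 a * Δ.Y4 (-1) * X 14 (e3 * δ0) := by
          rw [h1, hT, h2, Δ.nA_Y7, h3, mul_one, ← ha_def]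
      _ = X 1 e1 * (Δ.T x' 1 * Δ.Y4 (-1)) * u := by
          rw [hu_def, hw, ← Δ.Y4_inv]; group
      _ = _ := by rw [show Δ.T x' 1 * Δ.Y4 (-1) = Δ.Y4 s * Δ.T x' 1 from Δ.T_Orb 5 x' 1 (-1)]
  -- make the first coordinate of the torus trivial
  obtain ⟨v₀, hv₀, ev⟩ := Δ.Y7_conj_X1 t e1
  have hr1W : X 9 (r1 : K) ∈ Δ.W := Δ.X_fix_mem (by decide) r1.2
  have hX1 : X 1 e1 ∈ Δ.W := Δ.X_fix_mem (by decide) he1
  have hv₀W : v₀ ∈ Δ.W := by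
    have h : v₀ * X 9 (r1 : K) ∈ Δ.W := by
      show v₀ * X 9 (e1 * Δ.N t) ∈ Δ.W
      rw [← ev]
      exact Δ.W.mul_mem (Δ.W.mul_mem (Δ.Y7_mem t) hX1) (Δ.W.inv_mem (Δ.Y7_mem t))
    simpa using Δ.W.mul_mem h (Δ.W.inv_mem hr1W)
  have hc : Δ.phiE (slL r1) * Δ.Y4 s' * (Δ.phiE (slL r1))⁻¹ ∈ Δ.V Qn :=
    Δ.phiE_conj_V (by decide +kernel) (by decide +kernel) _ (Δ.Y4_mem_V s')
  rw [phiE_L] at hc
  refine hκ (k := Δ.Y7 t) (v := v₀ * (X 9 (r1 : K) * Δ.Y4 s' * (X 9 (r1 : K))⁻¹)) (u := 1)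
    (u' := Δ.Y7 t' * u * (Δ.Y7 t)⁻¹) (Δ.Y7_mem t) (mul_mem ⟨hv₀, hv₀W⟩ hc) (one_mem _)
    (mul_mem (mul_mem (Δ.Y7_mem_V t') huV) (inv_mem (Δ.Y7_mem_V t))) ?_ ?_
  · have hY : ∀ t : K, kap (Δ.Y7 t) = 0 := fun t => kap_zero (S := Qb) (subset_refl _)
      (Δ.Orb_mem_U (by decide) (by decide) (by decide) t)
    rw [kap_one, zero_add, kap_mul (mul_mem (Δ.V_U (Δ.Y7_mem_V t')) (Δ.V_U huV)) (inv_mem (Δ.V_U (Δ.Y7_mem_V t))),
      kap_mul (Δ.V_U (Δ.Y7_mem_V t')) (Δ.V_U huV), kap_inv (Δ.V_U (Δ.Y7_mem_V t)), hY, hY, neg_zero, zero_add,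
      add_zero, hu_def, kap_mul hwU (Δ.V_U h14V), hkw, kap_X 14 (by decide), if_pos rfl, hδ0_def,
      mul_div_cancel₀ _ he30]
    ring
  · calc Δ.Y7 t * (X 1 e1 * (Δ.Y4 s * Δ.T x' 1) * u) * (Δ.Y7 t)⁻¹
        = (Δ.Y7 t * X 1 e1 * (Δ.Y7 t)⁻¹) * (Δ.Y7 t * (Δ.Y4 s * Δ.T x' 1)) * u * (Δ.Y7 t)⁻¹ := by group
      _ = (v₀ * X 9 (r1 : K)) * (Δ.Y4 s' * X 9 (r' : K) * Δ.T 1 1 * Δ.Y7 t') * u * (Δ.Y7 t)⁻¹ := by
          rw [ev, esh]
      _ = v₀ * (X 9 (r1 : K) * Δ.Y4 s' * (X 9 (r1 : K))⁻¹) * 1 * (X 9 (r1 : K) * X 9 (r' : K)) *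
          Δ.T 1 1 * (Δ.Y7 t' * u * (Δ.Y7 t)⁻¹) := by group
      _ = _ := by rw [X_add]; rfl

/-! ### The (B, N)-pair -/

theorem hq : 1 < Δ.O.tw.q := Δ.hq1

/-- The Borel subgroup. -/
noncomputable def B : Subgroup (GL chevD4.Idx K) := chevD4.borelSubgroup K ⊓ Δ.W

/-- A minimal parabolic subgroup. -/
noncomputable def par (m : Fin Δ.O.tw.nn) : Subgroup (GL chevD4.Idx K) :=
  (Δ.O.tw.Qm Δ.hq m).map Δ.W.subtype

theorem V_le_B {S : Finset (Fin 24)} (h : S ⊆ Pos) : Δ.V S ≤ Δ.B := fun g hg =>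
  ⟨C.posUS_le_borel (by rw [← U_pos]; exact U_mono h (Δ.V_U hg)), Δ.V_W hg⟩

theorem B_le_par (m : Fin Δ.O.tw.nn) : Δ.B ≤ Δ.par m := fun g hg =>
  ⟨⟨g, hg.2⟩, Δ.O.tw.B1_le_Qm Δ.hq m (Δ.O.tw.mem_B1.2 hg.1), rfl⟩

theorem mem_B {g : GL chevD4.Idx K} (hg : g ∈ Δ.B) :
    ∃ (x : Kˣ) (y : (Δ.E)ˣ), ∃ u ∈ Δ.V Pos, g = Δ.T x y * u := by
  obtain ⟨v, hv, k, hk, rfl, hfv, hfk⟩ := Δ.O.tw.borel_fix hg.1 (Δ.O.tw.W_fix _ hg.2)
  obtain ⟨c, rfl⟩ := C.mem_diagonal_iff.1 hk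
  have hfk' : Δ.O.Θ (C.HT K c) = C.HT K c := hfk
  rw [Δ.O.Θ_HT] at hfk'
  obtain ⟨d, hd, e⟩ := Δ.O.lang c hfk'
  obtain ⟨d1, d0, d2⟩ := (D4.mem_TF Δ.F Δ.hq1 Δ.hK d).1 hd
  have hdE : ((d ⟨1, by decide⟩ : Kˣ) : K) ∈ Δ.E := congrArg Units.val d1
  set y : (Δ.E)ˣ := Units.mk0 ⟨_, hdE⟩ fun e => (d ⟨1, by decide⟩).ne_zero (congrArg Subtype.val e)
  have hT : C.HT K c = Δ.T (d ⟨0, by decide⟩) y := by
    rw [← e]
    show HT d = _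
    rw [T, HT4]
    congr 1
    funext j
    obtain rfl | rfl | rfl | rfl := node_cases j
    · simp
    · rw [v4_1]; exact Units.ext rfl
    · rw [v4_2]; exact d0.symm
    · rw [v4_3]; exact d2.symm.trans (congrArg Δ.φu d0.symm)
  rw [hT]
  have hv' : v ∈ Δ.V Pos := Δ.mem_V (by rw [U_pos]; exact hv) hfv
  exact ⟨d ⟨0, by decide⟩, y, (Δ.T (d ⟨0, by decide⟩) y)⁻¹ * v * Δ.T (d ⟨0, by decide⟩) y, Δ.T_conj_V' Pos _ y hv', by group⟩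

theorem par_cases (m : Fin Δ.O.tw.nn) {g : GL chevD4.Idx K} (hg : g ∈ Δ.par m) :
    g ∈ Δ.B ∨ ∃ u, u ∈ C.US K (C.inv' (Δ.O.tw.wO m)) ∧ u ∈ Δ.W ∧ ∃ b ∈ Δ.B,
      g = u * Δ.O.tw.nO m * b := by
  obtain ⟨p, hp, rfl⟩ := hg
  set P := Δ.O.tw.bnPair Δ.hq
  rcases Δ.O.tw.Qm_cases Δ.hq m (inv_mem hp) with h | ⟨b, hb, u, hu, e⟩
  · left
    have := inv_mem h
    rw [inv_inv] at this
    exact ⟨Δ.O.tw.mem_B1.1 this, p.2⟩
  · right
    have hsq : Δ.O.tw.nS m * Δ.O.tw.nS m ∈ Δ.O.tw.B1 := P.sq_mem _ ⟨m, rfl⟩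
    set b' := (Δ.O.tw.nS m * Δ.O.tw.nS m)⁻¹ * b⁻¹
    have hb' : b' ∈ Δ.O.tw.B1 := mul_mem (inv_mem hsq) (inv_mem hb)
    refine ⟨(u⁻¹ : ↥Δ.W), ?_, (u⁻¹).2, b', ⟨Δ.O.tw.mem_B1.1 hb', b'.2⟩, ?_⟩
    · exact Subgroup.mem_subgroupOf.1 (inv_mem hu)
    · have e' : p = u⁻¹ * Δ.O.tw.nS m * b' := by
        rw [← inv_inv p, e]; simp only [b']; group
      exact congrArg Subtype.val e'

/-- The orbit of the central node. -/
def mb : Fin Δ.O.tw.nn := (0 : Fin 2)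

/-- The orbit of the outer nodes. -/
def ma : Fin Δ.O.tw.nn := (1 : Fin 2)

theorem Jl_vals : Δ.O.Jl Δ.mb = [⟨1, by decide⟩] ∧
    Δ.O.Jl Δ.ma = [⟨0, by decide⟩, ⟨2, by decide⟩, ⟨3, by decide⟩] := by
  have h0 := D4.Js_spec Δ.F Δ.hq1 Δ.hK Δ.mb
  have h1 := D4.Js_spec Δ.F Δ.hq1 Δ.hK Δ.ma
  exact ⟨List.map_injective_iff.2 Fin.val_injective h0, List.map_injective_iff.2 Fin.val_injective h1⟩

theorem nO_mb : Δ.O.tw.nO Δ.mb = Δ.nB := by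
  show C.wprod K (Δ.O.Jl Δ.mb) = _
  rw [Δ.Jl_vals.1, Δ.nB_phi, nB_eq_wprod]

theorem nO_ma : Δ.O.tw.nO Δ.ma = Δ.nA := by
  show C.wprod K (Δ.O.Jl Δ.ma) = _
  rw [Δ.Jl_vals.2, Δ.nA_prod, phi_N, phi_N, phi_N]
  simp [Core.wprod, Core.P, D4.p_eq, mul_assoc]
  rfl

theorem Xp_mb {u : GL chevD4.Idx K} (h : u ∈ C.US K (C.inv' (Δ.O.tw.wO Δ.mb))) (hW : u ∈ Δ.W) :
    ∃ t ∈ Δ.E, u = X 14 t := by
  obtain ⟨t, ht, rfl⟩ := Δ.O.fixed_eq_xS Δ.mb h (Δ.O.tw.W_fix _ hW)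
  have hsz : Δ.O.sz (Δ.O.os Δ.mb) = 1 := (D4.sz_os Δ.F Δ.hq1 Δ.hK).1
  refine ⟨t, ?_, ?_⟩
  · have := ht
    unfold Orth.Valid at this
    rw [hsz] at this
    exact this
  · rw [Orth.xS, Orth.oprod, hsz]
    simp [sd, D4.p_eq]
    rfl

theorem Xp_ma {u : GL chevD4.Idx K} (h : u ∈ C.US K (C.inv' (Δ.O.tw.wO Δ.ma))) (hW : u ∈ Δ.W) :
    ∃ t : K, u = Δ.Y7 t := by
  obtain ⟨t, -, rfl⟩ := Δ.O.fixed_eq_xS Δ.ma h (Δ.O.tw.W_fix _ hW)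
  have hsz : Δ.O.sz (Δ.O.os Δ.ma) = 3 := (D4.sz_os Δ.F Δ.hq1 Δ.hK).2
  refine ⟨t, ?_⟩
  rw [Orth.xS, Orth.oprod, hsz, Δ.Y7_eq]
  simp [List.range_succ, sd, D4.p_eq, mul_assoc]
  rfl

variable (p : ℕ) [Fact p.Prime] [CharP K p]

include p in
theorem panelOK : FlagTrace.PanelOK (Δ.O.tw.bnPair Δ.hq) p := by
  classical
  haveI : Finite (Matrix chevD4.Idx chevD4.Idx K) := inferInstanceAs (Finite (chevD4.Idx → chevD4.Idx → K))
  haveI : Finite (GL chevD4.Idx K) :=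
    Finite.of_injective (fun g : GL chevD4.Idx K => g.1) (fun g h e => Units.ext e)
  let T := Δ.O.tw
  let P := T.bnPair Δ.hq
  intro s hs
  obtain ⟨m, rfl⟩ : ∃ m : Fin T.nn, T.nS m = s := hs
  have hsq : T.nS m * T.nS m ∈ T.B1 := P.sq_mem _ ⟨m, rfl⟩
  have hmem : ∀ u ∈ T.Xp m, (((u * T.nS m : ↥T.W) : FlagTrace.Flag P)).out ∈ BNPair.Basic.cell P (T.nS m) := by
    intro u hu
    obtain ⟨b, hb⟩ := QuotientGroup.mk_out_eq_mul P.B (u * T.nS m)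
    rw [hb]
    exact BNPair.Basic.mem_cell_iff.2 ⟨u, T.Xp_le_B1 m hu, b.1, b.2, rfl⟩
  let f : ↥(T.Xp m) → {c : FlagTrace.Flag P // c.out ∈ BNPair.Basic.cell P (T.nS m)} := fun u =>
    ⟨_, hmem u.1 u.2⟩
  have hinj : Function.Injective f := by
    intro u u' e
    have e' : ((u.1 * T.nS m : ↥T.W) : FlagTrace.Flag P) = ((u'.1 * T.nS m : ↥T.W) : FlagTrace.Flag P) :=
      congrArg Subtype.val e
    have h1 : (u.1 * T.nS m)⁻¹ * (u'.1 * T.nS m) ∈ T.B1 := QuotientGroup.eq.1 e'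
    have h2 : T.nS m * (u.1⁻¹ * u'.1) * (T.nS m)⁻¹ ∈ T.B1 := by
      have h3 := mul_mem (mul_mem hsq h1) (inv_mem hsq)
      rw [show T.nS m * (u.1⁻¹ * u'.1) * (T.nS m)⁻¹ =
        T.nS m * T.nS m * ((u.1 * T.nS m)⁻¹ * (u'.1 * T.nS m)) * (T.nS m * T.nS m)⁻¹ by group]
      exact h3
    have h4 : T.nS m * (u.1⁻¹ * u'.1) * (T.nS m)⁻¹ ∈ T.Xn m := by
      rw [← T.map_Xp]
      exact ⟨_, mul_mem (inv_mem u.2) u'.2, rfl⟩
    have h5 := T.eq_one_of_B1_V1 h2 (T.Xn_le_V1 m h4)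
    rw [conj_eq_one_iff, inv_mul_eq_one] at h5
    exact Subtype.ext h5
  have hsurj : Function.Surjective f := by
    rintro ⟨c, hc⟩
    have hnB : c.out ∉ T.B1 := fun ha => by
      obtain ⟨x, hx, y, hy, e⟩ := BNPair.Basic.mem_cell_iff.1 hc
      refine BNPair.Basic.not_mem_B (P := P) ⟨m, rfl⟩ ?_
      rw [show T.nS m = x⁻¹ * c.out * y⁻¹ by rw [e]; group]
      exact P.B.mul_mem (P.B.mul_mem (P.B.inv_mem hx) ha) (P.B.inv_mem hy)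
    have hQ : c.out ∈ T.Qm Δ.hq m := FlagTrace.cell_le_parabolic (P := P) ⟨m, rfl⟩ hc
    rcases Δ.par_cases m ⟨_, hQ, rfl⟩ with h | ⟨u, hu, huW, b, hb, e⟩
    · exact absurd (T.mem_B1.2 h.1) hnB
    refine ⟨⟨⟨u, huW⟩, Subgroup.mem_subgroupOf.2 hu⟩, Subtype.ext ?_⟩
    show ((⟨u, huW⟩ * T.nS m : ↥T.W) : FlagTrace.Flag P) = c
    rw [← QuotientGroup.out_eq' c, QuotientGroup.eq]
    have e2 : c.out = ⟨u, huW⟩ * T.nS m * ⟨b, hb.2⟩ := Subtype.ext e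
    rw [e2, inv_mul_cancel_left]
    exact T.mem_B1.2 hb.1
  refine (congrArg (Nat.cast : ℕ → ZMod p) (Nat.card_congr (Equiv.ofBijective f ⟨hinj, hsurj⟩)).symm).trans ?_
  rw [T.card_Xp, ZMod.natCast_eq_zero_iff]
  obtain ⟨n, hp, hn⟩ := FiniteField.card K p
  have hpq : p ∣ Δ.q := hp.dvd_of_dvd_pow (n := 3) (by rw [← Δ.hK, hn]; exact dvd_pow_self p n.ne_zero)
  refine hpq.trans (dvd_pow_self _ ?_)
  show C.len (T.wO m) / 1 ≠ 0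
  rw [Nat.div_one]
  exact (T.len_wO_pos m).ne'

theorem good_par_b {g : GL chevD4.Idx K} (hg : g ∈ Δ.par Δ.mb) : Δ.Good g := by
  rcases Δ.par_cases Δ.mb hg with hB | ⟨v, hv, hvW, b, hb, rfl⟩
  · obtain ⟨x, y, u, hu, rfl⟩ := Δ.mem_B hB
    exact Δ.good_B x y hu
  rw [nO_mb]
  obtain ⟨t, ht, rfl⟩ := Δ.Xp_mb hv hvW
  obtain ⟨x, y, u, hu, e⟩ := Δ.mem_B (mul_mem hb (Δ.V_le_B (subset_refl Pos)
    (Δ.X_fix_mem_V (n := 14) (by decide) (by decide) ht)))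
  obtain ⟨hk, q, hq, eu⟩ := Δ.split_b hu
  set k : Δ.E := ⟨kap u, hk⟩
  refine Good.of_conj' (Δ.X_fix_mem (n := 14) (by decide) (neg_mem ht)) (g' := Δ.nB * (Δ.T x y * u)) ?_ ?_
  · rw [← e, ← X_inv]; group
  have hdg : Matrix.GeneralLinearGroup.det (dg y (Δ.nmE x * y⁻¹)) = Δ.nmE x := by
    rw [det_dg, mul_comm, inv_mul_cancel_right]
  have hdn : Matrix.GeneralLinearGroup.det
      (Matrix.SpecialLinearGroup.toGL (slN (1 : (Δ.E)ˣ)) * dg y (Δ.nmE x * y⁻¹)) = Δ.nmE (1 * x) := by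
    rw [map_mul, det_toGL, hdg, one_mul, one_mul]
  have h := Δ.good_D (x := 1 * x * 1) (Matrix.SpecialLinearGroup.toGL (slN 1) * dg y (Δ.nmE x * y⁻¹) *
    Matrix.SpecialLinearGroup.toGL (slU k)) (by rw [map_mul, hdn, det_toGL, mul_one, mul_one]) hq
  rw [Δ.psi_mul hdn, Δ.psi_mul (by rw [det_toGL, map_one]), psi_of_sl, psi_of_sl, psi_dg, phiE_U] at h
  rw [eu, ← mul_assoc, ← mul_assoc]
  exact h

/-- Every element of the group is good. -/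
theorem good_all {g : GL chevD4.Idx K} (hg : g ∈ Δ.W) : Δ.Good g := by
  haveI : Finite (Matrix chevD4.Idx chevD4.Idx K) := inferInstanceAs (Finite (chevD4.Idx → chevD4.Idx → K))
  haveI : Finite (GL chevD4.Idx K) :=
    Finite.of_injective (fun g : GL chevD4.Idx K => g.1) (fun g h e => Units.ext e)
  obtain ⟨p, hp⟩ := CharP.exists K
  obtain ⟨n, hpr, -⟩ := FiniteField.card K p
  haveI : Fact p.Prime := ⟨hpr⟩
  have hS : (Δ.O.tw.bnPair Δ.hq).S = {Δ.O.tw.nS Δ.ma, Δ.O.tw.nS Δ.mb} := by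
    ext z
    constructor
    · rintro ⟨m, rfl⟩
      obtain rfl | rfl : m = Δ.ma ∨ m = Δ.mb := by
        have key : ∀ m : Fin 2, m = 1 ∨ m = 0 := by decide
        exact key m
      · exact Or.inl rfl
      · exact Or.inr rfl
    · rintro (rfl | rfl) <;> exact ⟨_, rfl⟩
  obtain ⟨k, p₁, h₁, p₂, h₂, e⟩ := FlagTrace.exists_conj_par (Δ.panelOK p) hS (⟨g, hg⟩ : ↥Δ.W)
  refine Good.of_conj' k.2 (congrArg Subtype.val e) ?_
  show Δ.Good ((p₁ : GL chevD4.Idx K) * (p₂ : GL chevD4.Idx K))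
  have h₁' : (p₁ : GL chevD4.Idx K) ∈ Δ.par Δ.ma := ⟨p₁, h₁, rfl⟩
  have h₂' : (p₂ : GL chevD4.Idx K) ∈ Δ.par Δ.mb := ⟨p₂, h₂, rfl⟩
  have hbp := Δ.B_le_par Δ.mb
  rcases Δ.par_cases Δ.ma h₁' with hB | ⟨v, hv, hvW, b, hb, e₁⟩
  · exact Δ.good_par_b (mul_mem (hbp hB) h₂')
  obtain ⟨t, rfl⟩ := Δ.Xp_ma hv hvW
  rw [e₁, nO_ma]
  have hY : ∀ t : K, Δ.Y7 t ∈ Δ.B := fun t => Δ.V_le_B (subset_refl Pos) (Δ.Y7_mem_V t)
  have h14 : ∀ t ∈ Δ.E, X 14 t ∈ Δ.B := fun t ht =>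
    Δ.V_le_B (subset_refl Pos) (Δ.X_fix_mem_V (by decide) (by decide) ht)
  set p := b * (p₂ : GL chevD4.Idx K) * Δ.Y7 t
  have hp' : p ∈ Δ.par Δ.mb := mul_mem (mul_mem (hbp hb) h₂') (hbp (hY t))
  refine Good.of_conj' (Δ.W.inv_mem (Δ.Y7_mem t)) (g' := Δ.nA * p) (by simp only [p]; group) ?_
  clear_value p
  rcases Δ.par_cases Δ.mb hp' with hpB | ⟨v, hv, hvW, b', hb', rfl⟩
  · obtain ⟨x, y, u, hu, e'⟩ := Δ.mem_B (mul_mem (mul_mem (hY 1) hpB) (hY 1))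
    have h := Δ.good_AC (s := -1) (neg_ne_zero.2 one_ne_zero) 0 x y hu
    rw [show ((0 : Δ.E) : K) = 0 from rfl, X_zero, mul_one] at h
    refine Good.of_conj' (Δ.Y7_mem (-1)) ?_ h
    rw [mul_assoc (Δ.Y4 (-1)), ← e', Δ.nA_eq, ← Δ.Y7_inv]
    group
  rw [nO_mb]
  obtain ⟨s, hs, rfl⟩ := Δ.Xp_mb hv hvW
  obtain ⟨e2, he2, -, h2⟩ := Δ.exists_nA_fix (n := 14) (m := 22) (by decide) (by decide)
    (by unfold reflW; decide +kernel)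
  have h22 : X 22 (e2 * s) ∈ Δ.B :=
    Δ.V_le_B (subset_refl Pos) (Δ.X_fix_mem_V (by decide) (by decide) (mul_mem he2 hs))
  set b2 := b' * X 22 (e2 * s)
  refine Good.of_conj' (Δ.W.inv_mem h22.2) (g' := Δ.nA * Δ.nB * b2) ?_ ?_
  · simp only [b2]
    rw [← h2 s]
    group
  set y' := Δ.nB⁻¹ * Δ.Y7 1 * Δ.nB
  have hy' : y' ∈ Δ.B := by
    have h := acts_conj_U (S := {12, 13, 18}) (S' := Pos) (C.acts_inv K Δ.acts_nB)
      (by unfold reflW; decide +kernel) (Δ.Orb_mem_U (a := 18) (by decide) (by decide) (by decide) 1)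
    rw [inv_inv] at h
    exact Δ.V_le_B (subset_refl Pos) ⟨h, Δ.W.mul_mem (Δ.W.mul_mem (Δ.W.inv_mem Δ.nB_mem) (Δ.Y7_mem 1)) Δ.nB_mem⟩
  have h1E : (1 : K) ∈ Δ.E := Δ.E.one_mem
  obtain ⟨x, y, u, hu, e'⟩ := Δ.mem_B (mul_mem (mul_mem (mul_mem (mul_mem (h14 1 h1E) hy')
    (mul_mem hb' h22)) (hY 1)) (h14 1 h1E))
  have h := Δ.good_AC (s := -1) (neg_ne_zero.2 one_ne_zero) (-1) x y hu
  refine Good.of_conj' (Δ.W.inv_mem (Δ.W.mul_mem (Δ.Y7_mem 1) (Δ.X_fix_mem (n := 14) (by decide) h1E))) ?_ h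
  rw [mul_assoc (Δ.Y4 (-1) * X 9 _), ← e', show (((-1 : Δ.E)) : K) = -1 from rfl]
  have hc : Commute (X 14 (1 : K)) (Δ.Y4 (-1)) := by
    rw [Δ.Y4_eq]
    exact ((comm_X (by decide +kernel) _ _).mul_right (comm_X (by decide +kernel) _ _)).mul_right
      (comm_X (by decide +kernel) _ _)
  have eY : Δ.Y7 1 * Δ.nB = Δ.nB * y' := by simp only [y']; group
  calc (Δ.Y7 1 * X 14 1)⁻¹ * (Δ.nA * Δ.nB * b2) * ((Δ.Y7 1 * X 14 1)⁻¹)⁻¹
      = (X 14 1)⁻¹ * Δ.Y4 (-1) * (Δ.Y7 1 * Δ.nB) * b2 * (Δ.Y7 1 * X 14 1) := by rw [Δ.nA_eq]; group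
    _ = (X 14 1)⁻¹ * (Δ.Y4 (-1) * X 14 1) * X 9 (-1) * X 14 1 * y' * b2 * (Δ.Y7 1 * X 14 1) := by
        rw [eY, Δ.nB_eq]; group
    _ = _ := by rw [← hc.eq]; simp only [b2]; group

end Env

end Cfsg.Agent.Lib.D4Gauss
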