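import Cfsg.Agent.Lib.D4Gauss.Parabolic

/-!
Every element of ³D₄(q) is a product of two conjugates of an elliptic element of the Levi subgroup.
-/

set_option autoImplicit false
set_option maxRecDepth 100000
set_option linter.unusedSectionVars false

namespace Cfsg.Agent.Lib.D4Gauss

open Cfsg.Lie Cfsg.Agent.Lib.ChevStructure
open Cfsg.Agent.Lib.LieTwisted Cfsg.Agent.Lib.LieTwisted.Twist
open Cfsg.Agent.Lib.PSp4Class (NonScalar nonScalar_of_irred exists_similar exists_product)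
open Cfsg.Agent.Lib.G2Gauss (dg det_dg Irred irred_scaled trace_det_inv trace_det_scale trace_det_conj
  exists_conj_of_free not_dvd_orderOf)
open scoped MatrixGroups Matrix

namespace Env

variable {K : Type*} [Field K] [Fintype K] (Δ : Env K)

/-- Every element is a product of two conjugates of ψ(A, x₀). -/
theorem two_conj {A : GL (Fin 2) Δ.E} (hA : Irred A) (ha : A.1.trace ≠ 0) {x₀ : Kˣ}
    (hAd : Matrix.GeneralLinearGroup.det A = Δ.nmE x₀) (hx₀ : x₀ ≠ 1) {g : GL chevD4.Idx K} (hg : g ∈ Δ.W) :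
    ∃ P ∈ Δ.W, ∃ Q ∈ Δ.W, g = (P * Δ.psi A x₀ * P⁻¹) * (Q * Δ.psi A x₀ * Q⁻¹) := by
  classical
  haveI : Finite (Matrix chevD4.Idx chevD4.Idx K) := inferInstanceAs (Finite (chevD4.Idx → chevD4.Idx → K))
  haveI : Finite (GL chevD4.Idx K) :=
    Finite.of_injective (fun g : GL chevD4.Idx K => g.1) (fun g h e => Units.ext e)
  obtain ⟨k, hk, v, hv, q, hq, M, hM, e⟩ := Δ.good_all hg
  obtain ⟨S, R, hSR⟩ := exists_product (A := A) hA ha (h := Matrix.SpecialLinearGroup.toGL M) M.2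
    (hM.imp (fun h => by rw [h]; rfl) id)
  -- the inverse class
  have hAi : Irred A⁻¹ := irred_scaled hA (trace_det_inv A).1 (trace_det_inv A).2
  obtain ⟨e1, e2⟩ := trace_det_scale A
  set A' := A * dg (Matrix.GeneralLinearGroup.det A)⁻¹ (Matrix.GeneralLinearGroup.det A)⁻¹ with hA'
  have hAi' : Irred A' := irred_scaled hA e1 e2
  obtain ⟨W, hW⟩ := exists_similar (nonScalar_of_irred hAi) (nonScalar_of_irred hAi')
    ((trace_det_inv A).1.trans e1.symm) ((trace_det_inv A).2.trans e2.symm)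
  have hn : Δ.psi A' x₀⁻¹ = nC * Δ.psi A x₀ * nC⁻¹ := by rw [Δ.nC_psi hAd]
  have hA'd : Matrix.GeneralLinearGroup.det A' = Δ.nmE x₀⁻¹ := by
    rw [hA', map_mul, det_dg, hAd, map_inv, mul_inv_cancel_left]
  have hAid : Matrix.GeneralLinearGroup.det A⁻¹ = Δ.nmE x₀⁻¹ := by rw [map_inv, hAd, map_inv]
  -- the two factors
  obtain ⟨xS, hxS⟩ := Δ.exists_norm' (Matrix.GeneralLinearGroup.det S)
  obtain ⟨xR, hxR⟩ := Δ.exists_norm' (Matrix.GeneralLinearGroup.det (R * W))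
  have hSd : Matrix.GeneralLinearGroup.det (S * A * S⁻¹) = Δ.nmE x₀ := by
    rw [map_mul, map_mul, map_inv, mul_inv_cancel_comm, hAd]
  have hRd : Matrix.GeneralLinearGroup.det (R * A⁻¹ * R⁻¹) = Δ.nmE x₀⁻¹ := by
    rw [map_mul, map_mul, map_inv Matrix.GeneralLinearGroup.det R, mul_inv_cancel_comm, hAid]
  obtain ⟨p1, hp1, h1⟩ := exists_conj_of_free (Δ.V Qn) (x := Δ.psi (S * A * S⁻¹) x₀)
    (fun p hp => Δ.psi_conj_V (by decide +kernel) (by decide +kernel) _ _ hp)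
    (fun p hp hc => Δ.eq_one_of_commute_Qn (hA.conj S) hSd hx₀ (Δ.V_U hp) hc) hv
  obtain ⟨p2, hp2, h2⟩ := exists_conj_of_free (Δ.V Qb) (x := Δ.psi (R * A⁻¹ * R⁻¹) x₀⁻¹)
    (fun p hp => Δ.psi_conj_V (by decide +kernel) (by decide +kernel) _ _ hp)
    (fun p hp hc => Δ.eq_one_of_commute_Qb (hAi.conj R) hRd (fun h => hx₀ (inv_eq_one.1 h)) (Δ.V_U hp) hc)
    (Δ.psi_conj_V (S := Qb) (by decide +kernel) (by decide +kernel) (R * A⁻¹ * R⁻¹) x₀⁻¹ hq)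
  rw [inv_mul_cancel_right] at h2
  refine ⟨k⁻¹ * p1 * Δ.psi S xS, Δ.W.mul_mem (Δ.W.mul_mem (Δ.W.inv_mem hk) (Δ.V_W hp1)) (Δ.psi_mem S xS),
    k⁻¹ * p2 * Δ.psi (R * W) xR * nC,
    Δ.W.mul_mem (Δ.W.mul_mem (Δ.W.mul_mem (Δ.W.inv_mem hk) (Δ.V_W hp2)) (Δ.psi_mem _ _)) Δ.nC_mem, ?_⟩
  have hX1 : Δ.psi (S * A * S⁻¹) x₀ = Δ.psi S xS * Δ.psi A x₀ * (Δ.psi S xS)⁻¹ :=
    (Δ.psi_conj hAd hxS.symm).symm
  have hX2 : Δ.psi (R * A⁻¹ * R⁻¹) x₀⁻¹ =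
      Δ.psi (R * W) xR * nC * Δ.psi A x₀ * (Δ.psi (R * W) xR * nC)⁻¹ := by
    rw [hW, show R * (W * A' * W⁻¹) * R⁻¹ = R * W * A' * (R * W)⁻¹ by group, ← Δ.psi_conj hA'd hxR.symm, hn]
    group
  have hMX : Δ.phiE M = Δ.psi (S * A * S⁻¹) x₀ * Δ.psi (R * A⁻¹ * R⁻¹) x₀⁻¹ := by
    rw [← Δ.psi_mul hSd, mul_inv_cancel, ← hSR, psi_of_sl]
  calc g = k⁻¹ * (v * Δ.phiE M * q) * k := by rw [← e]; group
    _ = k⁻¹ * ((v * Δ.psi (S * A * S⁻¹) x₀) * (Δ.psi (R * A⁻¹ * R⁻¹) x₀⁻¹ * q)) * k := by rw [hMX]; group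
    _ = _ := by rw [h1, h2, hX1, hX2]; group

theorem det_pow {A : GL (Fin 2) Δ.E} {x : Kˣ} (h : Matrix.GeneralLinearGroup.det A = Δ.nmE x) (n : ℕ) :
    Matrix.GeneralLinearGroup.det (A ^ n) = Δ.nmE (x ^ n) := by
  rw [map_pow, map_pow, h]

theorem psi_pow {A : GL (Fin 2) Δ.E} {x : Kˣ} (h : Matrix.GeneralLinearGroup.det A = Δ.nmE x) :
    ∀ n : ℕ, (Δ.psi A x) ^ n = Δ.psi (A ^ n) (x ^ n)
  | 0 => by rw [pow_zero, pow_zero, pow_zero, psi_one]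
  | n + 1 => by rw [pow_succ, psi_pow h n, ← Δ.psi_mul (Δ.det_pow h n), ← pow_succ, ← pow_succ]

theorem not_dvd_order (p : ℕ) [Fact p.Prime] [CharP K p] {A : GL (Fin 2) Δ.E} (hA : Irred A) {x : Kˣ}
    (h : Matrix.GeneralLinearGroup.det A = Δ.nmE x) : ¬ p ∣ orderOf (Δ.psi A x) := by
  haveI : CharP Δ.E p := (RingHom.charP_iff Δ.E.subtype Δ.E.subtype.injective p).2 inferInstance
  intro hd
  have hdiv : orderOf (Δ.psi A x) ∣ Nat.lcm (orderOf A) (orderOf x) := by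
    refine orderOf_dvd_of_pow_eq_one ?_
    rw [Δ.psi_pow h, orderOf_dvd_iff_pow_eq_one.1 (Nat.dvd_lcm_left _ _),
      orderOf_dvd_iff_pow_eq_one.1 (Nat.dvd_lcm_right _ _), psi_one]
  have hp := (Fact.out : p.Prime)
  rcases hp.dvd_mul.1 ((hd.trans hdiv).trans (Nat.lcm_dvd_mul _ _)) with h1 | h1
  · exact not_dvd_orderOf p hA h1
  · obtain ⟨n, -, hn⟩ := FiniteField.card K p
    have h2 : p ∣ Nat.card Kˣ := h1.trans (orderOf_dvd_natCard x)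
    rw [Nat.card_units, Nat.card_eq_fintype_card, hn] at h2
    have h3 : p ∣ p ^ (n : ℕ) := dvd_pow_self p n.ne_zero
    have h5 : 1 ≤ p ^ (n : ℕ) := Nat.one_le_pow _ _ hp.pos
    have h4 := Nat.dvd_sub h3 h2
    rw [show p ^ (n : ℕ) - (p ^ (n : ℕ) - 1) = 1 by omega] at h4
    exact hp.one_lt.ne' (Nat.dvd_one.1 h4)

/-- An elliptic matrix of trace one. -/
theorem exists_elliptic : ∃ A : GL (Fin 2) Δ.E, Irred A ∧ A.1.trace = 1 := by
  classical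
  obtain ⟨c, hc⟩ : ∃ c : Δ.E, ∀ r : Δ.E, r * r - r ≠ c := by
    by_contra h
    simp only [not_exists, not_forall, not_not] at h
    have hinj := Finite.injective_iff_surjective.2 (fun c => h c : Function.Surjective fun r : Δ.E => r * r - r)
    exact zero_ne_one (hinj (show (0 : Δ.E) * 0 - 0 = 1 * 1 - 1 by ring))
  have hc0 : -c ≠ 0 := fun e => hc 0 (by rw [neg_eq_zero] at e; rw [e]; ring)
  obtain ⟨A, hA⟩ := Cfsg.Agent.Lib.PSp4Class.exists_GL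
    (show (Cfsg.Agent.Lib.PSp4Class.cmp (1 : Δ.E) (-c)).det ≠ 0 by
      rw [Cfsg.Agent.Lib.PSp4Class.cmp, Matrix.det_fin_two_of]; simpa using hc0)
  have htr : A.1.trace = 1 := by rw [hA, Cfsg.Agent.Lib.PSp4Class.cmp, Matrix.trace_fin_two_of, zero_add]
  have hdet : A.1.det = -c := by rw [hA, Cfsg.Agent.Lib.PSp4Class.cmp, Matrix.det_fin_two_of]; ring
  refine ⟨A, fun r e => hc r ?_, htr⟩
  rw [htr, hdet] at e
  linear_combination e

/-- The result for the fixed-point model. -/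
theorem main (p : ℕ) [Fact p.Prime] [CharP K p] :
    ∃ x : ↥Δ.W, ¬ p ∣ orderOf x ∧ ∀ g : ↥Δ.W, g ≠ 1 → ∃ u v : ↥Δ.W, g = (u * x * u⁻¹) * (v * x * v⁻¹) := by
  obtain ⟨A, hA, htr⟩ := Δ.exists_elliptic
  obtain ⟨x₀, hx₀, hne⟩ := Δ.exists_norm (Matrix.GeneralLinearGroup.det A)
  refine ⟨⟨Δ.psi A x₀, Δ.psi_mem A x₀⟩, fun hp => Δ.not_dvd_order p hA hx₀.symm ?_, fun g _ => ?_⟩
  · rwa [Subgroup.orderOf_mk] at hp
  · obtain ⟨P, hP, Q, hQ, e⟩ := Δ.two_conj hA (by rw [htr]; exact one_ne_zero) hx₀.symm hne g.2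
    exact ⟨⟨P, hP⟩, ⟨Q, hQ⟩, Subtype.ext (by simpa using e)⟩

end Env

end Cfsg.Agent.Lib.D4Gauss
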