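import Cfsg.Agent.Lib.D4Gauss.Kap
import Cfsg.Agent.Lib.G2Gauss.Product

/-!
An elliptic element ψ(g, x), x ≠ 1, of the Levi subgroup fixes no non-trivial element of the radical of
the central node: on that radical it acts on four pairs of root groups as a multiple of g and on three
single root groups by non-trivial scalars.
-/

set_option autoImplicit false
set_option maxRecDepth 100000
set_option linter.unusedSectionVars false

namespace Cfsg.Agent.Lib.D4Gauss

open Cfsg.Lie Cfsg.Agent.Lib.ChevStructure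
open Cfsg.Agent.Lib.LieTwisted Cfsg.Agent.Lib.LieTwisted.Twist
open Cfsg.Agent.Lib.G2Gauss (slPart sl_induction Irred)
open scoped MatrixGroups Matrix

section Field

variable {K : Type*} [Field K]

/-- An ordered product of root elements. -/
noncomputable def wd (L : List (Fin 24)) (f : Fin 24 → K) : GL chevD4.Idx K :=
  (L.map fun n => X n (f n)).prod

theorem wd_mem : ∀ (L : List (Fin 24)) (f : Fin 24 → K), wd L f ∈ U L.toFinset K
  | [], f => one_mem _
  | k :: L, f => by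
    rw [wd, List.map_cons, List.prod_cons]
    exact mul_mem (X_mem_U (by simp) _) (U_mono (by simp) (wd_mem L f))

theorem exists_wd : ∀ {L : List (Fin 24)}, L.Nodup → Chain L → ∀ {g : GL chevD4.Idx K}, g ∈ U L.toFinset K →
    ∃ f, g = wd L f
  | [], _, _, g, hg => by
    refine ⟨0, ?_⟩
    have : g ∈ (⊥ : Subgroup (GL chevD4.Idx K)) :=
      (U_le (S := ([] : List (Fin 24)).toFinset) (M := ⊥) fun n hn => absurd hn (by simp)) hg
    simpa [wd] using Subgroup.mem_bot.1 this
  | k :: L, hnd, hch, g, hg => by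
    obtain ⟨hk, hnd'⟩ := List.nodup_cons.1 hnd
    obtain ⟨a, q, hq, rfl⟩ := exists_split k (S := L.toFinset) hch.1 List.toFinset_cons hg
    obtain ⟨f, rfl⟩ := exists_wd hnd' hch.2 hq
    refine ⟨Function.update f k a, ?_⟩
    simp only [wd, List.map_cons, List.prod_cons, Function.update_self]
    congr 1
    refine congrArg List.prod (List.map_congr_left fun r hr => ?_)
    rw [Function.update_of_ne]
    rintro rfl
    exact hk hr

/-- Each coefficient is determined modulo the later root groups. -/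
def FreeL : List (Fin 24) → Prop
  | [] => True
  | k :: L => Free k L.toFinset ∧ FreeL L

instance decFreeL : ∀ L, Decidable (FreeL L)
  | [] => isTrue trivial
  | k :: L =>
    haveI := decFreeL L
    inferInstanceAs (Decidable (Free k L.toFinset ∧ FreeL L))

theorem wd_unique : ∀ {L : List (Fin 24)}, FreeL L → ∀ {f f' : Fin 24 → K}, wd L f = wd L f' →
    ∀ n ∈ L, f n = f' n
  | [], _, _, _, _, n, hn => absurd hn (by simp)
  | k :: L, h, f, f', e, n, hn => by
    simp only [wd, List.map_cons, List.prod_cons] at e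
    have h1 : f k = f' k := coef_unique h.1 (wd_mem L f) (wd_mem L f') e
    rw [h1] at e
    have h2 := wd_unique h.2 (f := f) (f' := f') (mul_left_cancel e)
    rcases List.mem_cons.1 hn with rfl | hn
    · exact h1
    · exact h2 n hn

/-- An element of a pair of root groups. -/
noncomputable def pair (top bot : Fin 24) (c : ℤ) (w : Fin 2 → K) : GL chevD4.Idx K :=
  X top ((c : K) * w 0) * X bot (w 1)

/-- A pair of root groups forming a module for the rank one group of 14. -/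
def IsPair (top bot : Fin 24) (c : ℤ) : Prop :=
  c * c = 1 ∧ Term 14 bot top c ∧ Comm 14 top ∧ Term 9 top bot c ∧ Comm 9 bot ∧ Comm top bot ∧
    ∀ j, A chevD4 j (rt top) = A chevD4 j (rt bot) + A chevD4 j (rt 14)

instance (top bot : Fin 24) (c : ℤ) : Decidable (IsPair top bot c) := by unfold IsPair; infer_instance

theorem phi14_pair {top bot : Fin 24} {c : ℤ} (h : IsPair top bot c) (S : Matrix.SpecialLinearGroup (Fin 2) K)
    (w : Fin 2 → K) : phi 14 S * pair top bot c w * (phi 14 S)⁻¹ = pair top bot c (S.1 *ᵥ w) := by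
  obtain ⟨hc, hU, hU', hL, hL', htb, -⟩ := h
  have hcK : (c : K) * c = 1 := by rw [← Int.cast_mul, hc, Int.cast_one]
  let M : Subgroup (Matrix.SpecialLinearGroup (Fin 2) K) :=
    { carrier := {S | ∀ w, phi 14 S * pair top bot c w * (phi 14 S)⁻¹ = pair top bot c (S.1 *ᵥ w)}
      one_mem' := fun w => by simp
      mul_mem' := fun {a b} ha hb w => by
        rw [map_mul, Matrix.SpecialLinearGroup.coe_mul, ← Matrix.mulVec_mulVec, ← ha, ← hb]
        group
      inv_mem' := fun {a} ha w => by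
        have e := ha ((a⁻¹).1 *ᵥ w)
        rw [Matrix.mulVec_mulVec, ← Matrix.SpecialLinearGroup.coe_mul, mul_inv_cancel,
          Matrix.SpecialLinearGroup.coe_one, Matrix.one_mulVec] at e
        rw [← e, map_inv]
        group }
  refine sl_induction (M := M) (fun t w => ?_) (fun t w => ?_) S w
  · rw [phi_U, X_inv, ← cj_apply, pair, map_mul, cj_comm hU', cj_term hU, ← mul_assoc,
      mul_assoc (X top _) (X bot _), ← (comm_X htb _ _).eq, ← mul_assoc, X_add, pair]
    congr 2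
    · simp [Matrix.mulVec, dotProduct, Fin.sum_univ_two]
      ring
    · simp [Matrix.mulVec, dotProduct, Fin.sum_univ_two]
  · rw [phi_L, X_inv, ← cj_apply, show Fin.rev (14 : Fin 24) = 9 by decide, pair, map_mul, cj_comm hL',
      cj_term hL, mul_assoc (X top _), X_add, pair]
    congr 2
    · simp [Matrix.mulVec, dotProduct, Fin.sum_univ_two]
    · simp [Matrix.mulVec, dotProduct, Fin.sum_univ_two]
      linear_combination (t * w 0) * hcK

end Field

namespace Env

variable {K : Type*} [Field K] [Fintype K] (Δ : Env K)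

theorem mem_E_of_sq {x : K} (h : x * x ∈ Δ.E) : x ∈ Δ.E := by
  have e : Δ.φ x * Δ.φ x = x * x := by rw [← map_mul]; exact Δ.mem_E.1 h
  rcases mul_self_eq_mul_self_iff.1 e with e' | e'
  · exact Δ.mem_E.2 e'
  · refine Δ.mem_E.2 ?_
    have h3 := Δ.φ3 x
    rw [e', map_neg, map_neg, e', map_neg, neg_neg, e'] at h3
    exact e'.trans h3

theorem sq_ne_N {x : Kˣ} (hx : x ≠ 1) : (x : K) * x ≠ Δ.N x := by
  intro e
  have hxE := Δ.mem_E.1 (Δ.mem_E_of_sq (x := (x : K)) (by rw [e]; exact Δ.N_mem _))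
  rw [N, hxE, hxE] at e
  exact hx (Units.ext (mul_left_cancel₀ (mul_ne_zero x.ne_zero x.ne_zero) (by rw [Units.val_one, mul_one]; exact e.symm)))

theorem no_root {g : GL (Fin 2) Δ.E} (hg : Irred g) (r : K) :
    r * r - (g.1.trace : K) * r + (g.1.det : K) ≠ 0 := by
  intro e
  have e1 : Δ.φ r * Δ.φ r - (g.1.trace : K) * Δ.φ r + (g.1.det : K) = 0 := by
    have := congrArg Δ.φ e
    rwa [map_add, map_sub, map_mul, map_mul, Δ.φ_E, Δ.φ_E, map_zero] at this
  have e2 : (Δ.φ r - r) * (Δ.φ r + r - (g.1.trace : K)) = 0 := by linear_combination e1 - e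
  have hr : Δ.φ r = r := by
    rcases mul_eq_zero.1 e2 with h | h
    · exact sub_eq_zero.1 h
    · have h1 : Δ.φ r = (g.1.trace : K) - r := by linear_combination h
      have h2 : Δ.φ (Δ.φ r) = r := by rw [h1, map_sub, Δ.φ_E, h1]; ring
      have h3 := Δ.φ3 r
      rwa [h2] at h3
  exact hg ⟨r, Δ.mem_E.2 hr⟩ (Subtype.ext (by simpa using e))

theorem psi_pair {top bot : Fin 24} {c : ℤ} (h : IsPair top bot c) (g : GL (Fin 2) Δ.E) {x : Kˣ}
    (hg : Matrix.GeneralLinearGroup.det g = Δ.nmE x) (w : Fin 2 → K) :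
    Δ.psi g x * pair top bot c w * (Δ.psi g x)⁻¹ =
      pair top bot c (((Δ.χ bot x 1 : K) * (Δ.N x)⁻¹) • (g.1.map Δ.E.subtype *ᵥ w)) := by
  have hχ : Δ.χ top x 1 = Δ.χ bot x 1 * Δ.χ 14 x 1 := by
    simp only [χ, chA, Core.chA]
    rw [← Finset.prod_mul_distrib]
    refine Finset.prod_congr rfl fun j _ => ?_
    rw [h.2.2.2.2.2.2 j, zpow_add]
  set w1 : Fin 2 → K := ![(Δ.χ bot x 1 : K) * (Δ.N x)⁻¹ * w 0, (Δ.χ bot x 1 : K) * w 1]
  have hT : Δ.T x 1 * pair top bot c w * (Δ.T x 1)⁻¹ = pair top bot c w1 := by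
    rw [pair, ← mul_assoc, Δ.T_X, mul_assoc (X top _) (Δ.T x 1), Δ.T_X, ← mul_assoc, mul_inv_cancel_right, pair]
    congr 2
    rw [hχ, χ14, Units.val_mul, Units.val_inv_eq_inv_val, ι_val, nmE_val]
    simp [w1]
    ring
  rw [psi, _root_.mul_inv_rev, show Δ.phiE (slPart g) * Δ.T x 1 * pair top bot c w *
    ((Δ.T x 1)⁻¹ * (Δ.phiE (slPart g))⁻¹) = Δ.phiE (slPart g) * (Δ.T x 1 * pair top bot c w * (Δ.T x 1)⁻¹) *
      (Δ.phiE (slPart g))⁻¹ by group, hT]
  show phi 14 _ * _ * (phi 14 _)⁻¹ = _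
  rw [phi14_pair h]
  congr 1
  have hd : ((g.1.det : Δ.E) : K) = Δ.N x := by
    rw [← Δ.nmE_val, ← hg]
    simp
  funext i
  have hs : (Matrix.SpecialLinearGroup.map Δ.E.subtype (slPart g)).1 =
      (g.1 * !![1, 0; 0, (g.1.det)⁻¹]).map Δ.E.subtype := rfl
  rw [hs]
  have hN : Δ.N (x : K) ≠ 0 := Δ.N_ne x.ne_zero
  fin_cases i <;>
    simp [w1, Matrix.mulVec, dotProduct, Fin.sum_univ_two, Matrix.mul_apply, Matrix.vecMul, hd] <;> ring

theorem psi_single {n : Fin 24} (h1 : Comm 14 n) (h2 : Comm 9 n) (g : GL (Fin 2) Δ.E) (x : Kˣ) (t : K) :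
    Δ.psi g x * X n t * (Δ.psi g x)⁻¹ = X n ((Δ.χ n x 1 : K) * t) := by
  have hc : Commute (Δ.phiE (slPart g)) (X n ((Δ.χ n x 1 : K) * t)) := by
    have hm := phi_mem_of (n := 14) (M := Subgroup.centralizer {X n ((Δ.χ n x 1 : K) * t)})
      (fun u => Subgroup.mem_centralizer_singleton_iff.2 (comm_X h1 u _).eq)
      (fun u => Subgroup.mem_centralizer_singleton_iff.2 (comm_X h2 u _).eq)
      (Matrix.SpecialLinearGroup.map Δ.E.subtype (slPart g))
    exact Subgroup.mem_centralizer_singleton_iff.1 hm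
  rw [psi, mul_assoc (Δ.phiE _) (Δ.T x 1), Δ.T_X, ← mul_assoc, hc.eq]
  group

theorem eq_zero_of_fixed {g : GL (Fin 2) Δ.E} (hg : Irred g) {k : K} {w : Fin 2 → K}
    (h : k • (g.1.map Δ.E.subtype *ᵥ w) = w) : w = 0 := by
  by_contra hw
  have hk : k ≠ 0 := fun e => hw (by rw [← h, e, zero_smul])
  have e0 : (g.1 0 0 : K) * w 0 + (g.1 0 1 : K) * w 1 = k⁻¹ * w 0 := by
    have := congrFun h 0
    simp [Matrix.mulVec, dotProduct, Fin.sum_univ_two] at this
    rw [eq_inv_mul_iff_mul_eq₀ hk]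
    exact this
  have e1 : (g.1 1 0 : K) * w 0 + (g.1 1 1 : K) * w 1 = k⁻¹ * w 1 := by
    have := congrFun h 1
    simp [Matrix.mulVec, dotProduct, Fin.sum_univ_two] at this
    rw [eq_inv_mul_iff_mul_eq₀ hk]
    exact this
  refine Δ.no_root hg k⁻¹ ?_
  rw [Matrix.trace_fin_two, Matrix.det_fin_two]
  push_cast
  by_contra hne
  have h0 : w 0 = 0 := by
    refine (mul_eq_zero.1 (?_ : (k⁻¹ * k⁻¹ - ((g.1 0 0 : K) + (g.1 1 1 : K)) * k⁻¹ +
      ((g.1 0 0 : K) * (g.1 1 1 : K) - (g.1 0 1 : K) * (g.1 1 0 : K))) * w 0 = 0)).resolve_left hne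
    linear_combination ((g.1 1 1 : K) - k⁻¹) * e0 - (g.1 0 1 : K) * e1
  have h1 : w 1 = 0 := by
    refine (mul_eq_zero.1 (?_ : (k⁻¹ * k⁻¹ - ((g.1 0 0 : K) + (g.1 1 1 : K)) * k⁻¹ +
      ((g.1 0 0 : K) * (g.1 1 1 : K) - (g.1 0 1 : K) * (g.1 1 0 : K))) * w 1 = 0)).resolve_left hne
    linear_combination ((g.1 0 0 : K) - k⁻¹) * e1 - (g.1 1 0 : K) * e0
  exact hw (funext fun i => by fin_cases i <;> simp [h0, h1])

theorem single_ne {x : Kˣ} (hx : x ≠ 1) :
    Δ.χ 21 x 1 ≠ 1 ∧ Δ.χ 17 x 1 ≠ 1 ∧ Δ.χ 20 x 1 ≠ 1 := by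
  have hxx : (x : K) ≠ 0 := x.ne_zero
  have h1 : Δ.φ (x : K) ≠ 0 := (map_ne_zero Δ.φ).2 hxx
  have h2 : Δ.φ (Δ.φ (x : K)) ≠ 0 := (map_ne_zero Δ.φ).2 h1
  refine ⟨fun e => ?_, fun e => ?_, fun e => ?_⟩
  · rw [Δ.χ_eq 21 (v4 1 0 1 (-1)) (by decide +kernel)] at e
    have e' := congrArg (fun u : Kˣ => Δ.φ (u : K)) e
    simp [φu_val, Δ.φ3] at e'
    refine Δ.sq_ne_N hx ?_
    rw [N]
    field_simp at e'
    linear_combination (-(x : K)) * e'
  · rw [Δ.χ_eq 17 (v4 (-1) 0 1 1) (by decide +kernel)] at e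
    have e' := congrArg Units.val e
    simp [φu_val] at e'
    refine Δ.sq_ne_N hx ?_
    rw [N]
    field_simp at e'
    linear_combination (-(x : K)) * e'
  · rw [Δ.χ_eq 20 (v4 1 0 (-1) 1) (by decide +kernel)] at e
    have e' := congrArg (fun u : Kˣ => Δ.φ (Δ.φ (u : K))) e
    simp [φu_val, Δ.φ3] at e'
    refine Δ.sq_ne_N hx ?_
    rw [N]
    field_simp at e'
    linear_combination (-(x : K)) * e'

/-- No fixed points on the radical. -/
theorem eq_one_of_commute_Qb {g : GL (Fin 2) Δ.E} (hg : Irred g) {x : Kˣ}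
    (hd : Matrix.GeneralLinearGroup.det g = Δ.nmE x) (hx : x ≠ 1) {u : GL chevD4.Idx K} (hu : u ∈ U Qb K)
    (hc : Commute (Δ.psi g x) u) : u = 1 := by
  set L : List (Fin 24) := [19, 18, 16, 13, 15, 12, 21, 17, 20, 23, 22] with hL
  have hLQ : L.toFinset = Qb := by decide
  obtain ⟨f, rfl⟩ := exists_wd (L := L) (by decide) (by decide +kernel) (hLQ.symm ▸ hu)
  let m := g.1.map Δ.E.subtype
  let A : Fin 24 → Fin 24 → ℤ → (Fin 2 → K) := fun top bot c =>
    ((Δ.χ bot x 1 : K) * (Δ.N x)⁻¹) • (m *ᵥ ![(c : K) * f top, f bot])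
  let f' : Fin 24 → K := fun n =>
    if n = 19 then ((1 : ℤ) : K) * A 19 18 1 0 else if n = 18 then A 19 18 1 1 else
    if n = 16 then ((-1 : ℤ) : K) * A 16 13 (-1) 0 else if n = 13 then A 16 13 (-1) 1 else
    if n = 15 then ((-1 : ℤ) : K) * A 15 12 (-1) 0 else if n = 12 then A 15 12 (-1) 1 else
    if n = 23 then ((1 : ℤ) : K) * A 23 22 1 0 else if n = 22 then A 23 22 1 1 else
    (Δ.χ n x 1 : K) * f n
  have p : ∀ (top bot : Fin 24) (c : ℤ), IsPair top bot c →
      Δ.psi g x * (X top (f top) * X bot (f bot)) * (Δ.psi g x)⁻¹ = pair top bot c (A top bot c) := by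
    intro top bot c h
    have e := Δ.psi_pair h g hd ![(c : K) * f top, f bot]
    rw [← e]
    simp only [pair, Matrix.cons_val_zero, Matrix.cons_val_one]
    rw [← mul_assoc (c : K), ← Int.cast_mul, h.1, Int.cast_one, one_mul]
  have key : Δ.psi g x * wd L f * (Δ.psi g x)⁻¹ = wd L f' := by
    have p1 := p 19 18 1 (by decide +kernel)
    have p2 := p 16 13 (-1) (by decide +kernel)
    have p3 := p 15 12 (-1) (by decide +kernel)
    have p4 := p 23 22 1 (by decide +kernel)
    have q1 := Δ.psi_single (n := 21) (by decide +kernel) (by decide +kernel) g x (f 21)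
    have q2 := Δ.psi_single (n := 17) (by decide +kernel) (by decide +kernel) g x (f 17)
    have q3 := Δ.psi_single (n := 20) (by decide +kernel) (by decide +kernel) g x (f 20)
    simp only [wd, hL, List.map_cons, List.map_nil, List.prod_cons, List.prod_nil, mul_one]
    calc _ = (Δ.psi g x * (X 19 (f 19) * X 18 (f 18)) * (Δ.psi g x)⁻¹) *
          (Δ.psi g x * (X 16 (f 16) * X 13 (f 13)) * (Δ.psi g x)⁻¹) *
          (Δ.psi g x * (X 15 (f 15) * X 12 (f 12)) * (Δ.psi g x)⁻¹) *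
          (Δ.psi g x * X 21 (f 21) * (Δ.psi g x)⁻¹) * (Δ.psi g x * X 17 (f 17) * (Δ.psi g x)⁻¹) *
          (Δ.psi g x * X 20 (f 20) * (Δ.psi g x)⁻¹) *
          (Δ.psi g x * (X 23 (f 23) * X 22 (f 22)) * (Δ.psi g x)⁻¹) := by group
      _ = _ := by
        rw [p1, p2, p3, p4, q1, q2, q3]
        simp [f', pair, mul_assoc]
  rw [hc.eq, mul_inv_cancel_right] at key
  have hf := wd_unique (L := L) (by decide +kernel) key
  have hpair : ∀ (top bot : Fin 24) (c : ℤ), c * c = 1 → f top = (c : K) * A top bot c 0 → f bot = A top bot c 1 →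
      f top = 0 ∧ f bot = 0 := by
    intro top bot c hc2 h0 h1
    have hcK : (c : K) * c = 1 := by rw [← Int.cast_mul, hc2, Int.cast_one]
    have hw := Δ.eq_zero_of_fixed hg (w := ![(c : K) * f top, f bot])
      (k := (Δ.χ bot x 1 : K) * (Δ.N x)⁻¹) (funext fun i => by
        fin_cases i
        · show A top bot c 0 = (c : K) * f top
          rw [h0, ← mul_assoc, hcK, one_mul]
        · exact h1.symm)
    have w0 := congrFun hw 0
    have w1 := congrFun hw 1
    simp at w0 w1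
    refine ⟨?_, w1⟩
    rcases w0 with h | h
    · rw [h, mul_zero] at hcK; exact absurd hcK zero_ne_one
    · exact h
  have hsing : ∀ n, f n = (Δ.χ n x 1 : K) * f n → Δ.χ n x 1 ≠ 1 → f n = 0 := fun n e h => by
    by_contra hne
    exact h (Units.ext (mul_right_cancel₀ hne (by rw [← e, Units.val_one, one_mul])))
  obtain ⟨s1, s2, s3⟩ := Δ.single_ne hx
  obtain ⟨a1, b1⟩ := hpair 19 18 1 rfl (by simpa [f'] using hf 19 (by decide)) (by simpa [f'] using hf 18 (by decide))
  obtain ⟨a2, b2⟩ := hpair 16 13 (-1) rfl (by simpa [f'] using hf 16 (by decide))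
    (by simpa [f'] using hf 13 (by decide))
  obtain ⟨a3, b3⟩ := hpair 15 12 (-1) rfl (by simpa [f'] using hf 15 (by decide))
    (by simpa [f'] using hf 12 (by decide))
  obtain ⟨a4, b4⟩ := hpair 23 22 1 rfl (by simpa [f'] using hf 23 (by decide)) (by simpa [f'] using hf 22 (by decide))
  have c1 := hsing 21 (by simpa [f'] using hf 21 (by decide)) s1
  have c2 := hsing 17 (by simpa [f'] using hf 17 (by decide)) s2
  have c3 := hsing 20 (by simpa [f'] using hf 20 (by decide)) s3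
  simp [wd, hL, a1, b1, a2, b2, a3, b3, a4, b4, c1, c2, c3, X_zero]

end Env

end Cfsg.Agent.Lib.D4Gauss
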