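import Cfsg.Agent.Lib.D4Gauss.Basic

/-!
The homomorphisms SL₂ → ⟨X_r, X_{-r}⟩ in type D₄ and how the torus moves them.
-/

set_option autoImplicit false
set_option maxRecDepth 100000
set_option linter.unusedSectionVars false

namespace Cfsg.Agent.Lib.D4Gauss

open Cfsg.Lie Cfsg.Agent.Lib.ChevStructure
open Cfsg.Agent.Lib.LieTwisted Cfsg.Agent.Lib.LieTwisted.Twist
open Cfsg.Agent.Lib.G2Gauss (dconj sl_induction sl_hom_ext)
open scoped MatrixGroups Matrix

variable {K : Type*} [Field K]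

/-- The homomorphism SL₂ → ⟨X_n, X_{-n}⟩. -/
noncomputable def phi (n : Fin 24) : Matrix.SpecialLinearGroup (Fin 2) K →* GL chevD4.Idx K :=
  Classical.choose (C.exists_slHom K (rt n))

theorem phi_U (n : Fin 24) (t : K) : phi n (slU t) = X n t :=
  ((Classical.choose_spec (C.exists_slHom K (rt n))).2 t).1

theorem phi_L (n : Fin 24) (t : K) : phi n (slL t) = X n.rev t :=
  ((Classical.choose_spec (C.exists_slHom K (rt n))).2 t).2

theorem phi_mem_of {n : Fin 24} {M : Subgroup (GL chevD4.Idx K)} (h1 : ∀ t, X n t ∈ M)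
    (h2 : ∀ t, X n.rev t ∈ M) (g : Matrix.SpecialLinearGroup (Fin 2) K) : phi n g ∈ M :=
  sl_induction (M := M.comap (phi n)) (fun t => by rw [Subgroup.mem_comap, phi_U]; exact h1 t)
    (fun t => by rw [Subgroup.mem_comap, phi_L]; exact h2 t) g

theorem phi_mem (n : Fin 24) (g : Matrix.SpecialLinearGroup (Fin 2) K) : phi n g ∈ chevD4.group K :=
  phi_mem_of (X_mem n) (X_mem _) g

theorem phi_N (n : Fin 24) (u : Kˣ) : phi n (slN u) = C.nR K (rt n) u := by
  rw [slN, map_mul, map_mul, phi_U, phi_L]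
  rfl

theorem phi_H (n : Fin 24) (u : Kˣ) : phi n (slH u) = HT fun j => u ^ co chevD4 (rt n) j := by
  rw [slH, map_mul, phi_N, phi_N, C.hR_eq, C.hD_eq_HT]
  rfl

/-- The root subgroups of r, -r commute with those of s, -s. -/
def Orth2 (r s : Fin 24) : Prop := Comm r s ∧ Comm r s.rev ∧ Comm r.rev s ∧ Comm r.rev s.rev

instance (r s : Fin 24) : Decidable (Orth2 r s) := by unfold Orth2; infer_instance

theorem phi_comm {r s : Fin 24} (h : Orth2 r s) (S R : Matrix.SpecialLinearGroup (Fin 2) K) :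
    Commute (phi r S) (phi s R) := by
  obtain ⟨h1, h2, h3, h4⟩ := h
  have key : ∀ n, Comm n s → Comm n s.rev → ∀ t, phi s R ∈ Subgroup.centralizer {X n t} := fun n a b t =>
    phi_mem_of (fun u => Subgroup.mem_centralizer_singleton_iff.2 (comm_X a t u).eq.symm)
      (fun u => Subgroup.mem_centralizer_singleton_iff.2 (comm_X b t u).eq.symm) R
  have hmem : phi r S ∈ Subgroup.centralizer {phi s R} :=
    phi_mem_of (fun t => Subgroup.mem_centralizer_singleton_iff.2
        (Subgroup.mem_centralizer_singleton_iff.1 (key r h1 h2 t)).symm)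
      (fun t => Subgroup.mem_centralizer_singleton_iff.2
        (Subgroup.mem_centralizer_singleton_iff.1 (key r.rev h3 h4 t)).symm) S
  exact Subgroup.mem_centralizer_singleton_iff.1 hmem

/-- A torus element moves the rank one group by a diagonal automorphism. -/
theorem HT_phi (n : Fin 24) (c : Fin chevD4.rank → Kˣ) (S : Matrix.SpecialLinearGroup (Fin 2) K) :
    HT c * phi n S = phi n (dconj (chA n c)⁻¹ S) * HT c := by
  have h := sl_hom_ext (f := (MulAut.conj (HT c)).toMonoidHom.comp (phi n))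
    (g := (phi n).comp (dconj (chA n c)⁻¹)) (fun t => ?_) (fun t => ?_) S
  · have h' : HT c * phi n S * (HT c)⁻¹ = phi n (dconj (chA n c)⁻¹ S) := h
    rw [← h', inv_mul_cancel_right]
  · show HT c * phi n (slU t) * (HT c)⁻¹ = phi n (dconj (chA n c)⁻¹ (slU t))
    have e : dconj (chA n c)⁻¹ (slU t) = slU ((chA n c : K) * t) := by
      refine Subtype.ext ?_
      show !![1, 0; 0, (((chA n c)⁻¹ : Kˣ) : K)] * (slU t).1 * !![1, 0; 0, ((((chA n c)⁻¹)⁻¹ : Kˣ) : K)] = (slU _).1
      rw [inv_inv]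
      simp [Matrix.mul_fin_two, mul_comm]
    rw [e, phi_U, phi_U, HT_X, mul_inv_cancel_right]
  · show HT c * phi n (slL t) * (HT c)⁻¹ = phi n (dconj (chA n c)⁻¹ (slL t))
    have hr : chA n.rev c = (chA n c)⁻¹ := by
      rw [chA, chA, ← rt_rev]
      simp only [Core.chA, C.A_rev, zpow_neg, Finset.prod_inv_distrib]
    have e : dconj (chA n c)⁻¹ (slL t) = slL ((((chA n c)⁻¹ : Kˣ) : K) * t) := by
      refine Subtype.ext ?_
      show !![1, 0; 0, (((chA n c)⁻¹ : Kˣ) : K)] * (slL t).1 * !![1, 0; 0, ((((chA n c)⁻¹)⁻¹ : Kˣ) : K)] = (slL _).1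
      rw [inv_inv]
      simp [Matrix.mul_fin_two]
    rw [e, phi_L, phi_L, HT_X, hr, mul_inv_cancel_right]

/-- A reflection moves a torus element. -/
theorem nR_HT (n : Fin 24) (c : Fin chevD4.rank → Kˣ) :
    phi n (slN 1) * HT c = HT (c * fun j => (chA n c)⁻¹ ^ co chevD4 (rt n) j) * phi n (slN 1) := by
  have h := HT_phi n c (slN 1)
  have e : dconj (chA n c)⁻¹ (slN 1) = slH (chA n c) * slN 1 := by
    refine Subtype.ext ?_
    show !![1, 0; 0, (((chA n c)⁻¹ : Kˣ) : K)] * (slN (1 : Kˣ)).1 * !![1, 0; 0, ((((chA n c)⁻¹)⁻¹ : Kˣ) : K)] = _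
    rw [inv_inv, Matrix.SpecialLinearGroup.coe_mul, slN_val, slH_val]
    simp [Matrix.mul_fin_two]
  rw [e, map_mul, phi_H] at h
  have h2 : (HT fun j => chA n c ^ co chevD4 (rt n) j : GL chevD4.Idx K)⁻¹ * HT c =
      HT (c * fun j => (chA n c)⁻¹ ^ co chevD4 (rt n) j) := by
    rw [HT_inv, HT_mul]
    congr 1
    funext j
    simp [mul_comm]
  rw [← h2, mul_assoc _ (HT c), h, mul_assoc (HT _), inv_mul_cancel_left]

/-- The permutation of the roots by a conjugate of a simple reflection. -/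
noncomputable def reflW (L : List (Fin chevD4.rank)) (i : Fin chevD4.rank) : Equiv.Perm (Rt chevD4) :=
  C.pprod L * C.pprod [i] * (C.pprod L)⁻¹

theorem acts_phi {n : Fin 24} {L : List (Fin chevD4.rank)} {i : Fin chevD4.rank}
    (h : C.pprod L (C.p i) = rt n) : C.Acts (phi n (slN (1 : Kˣ))) (reflW L i) := by
  obtain ⟨u, hu⟩ := C.wprod_nR K L (C.p i) 1
  rw [h] at hu
  have hP : C.nR K (C.p i) 1 = C.wprod K [i] := by simp [Core.wprod, Core.P]
  have hh : C.nR K (rt n) u = HT (fun j => u ^ co chevD4 (rt n) j) * phi n (slN 1) := by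
    rw [← phi_N, ← phi_H, ← map_mul]
    congr 1
    refine Subtype.ext ?_
    rw [Matrix.SpecialLinearGroup.coe_mul, slN_val, slN_val, slH_val]
    simp [Matrix.mul_fin_two]
  rw [hP, hh] at hu
  have e : (phi n (slN 1) : GL chevD4.Idx K) =
      (HT fun j => u ^ co chevD4 (rt n) j)⁻¹ * (C.wprod K L * C.wprod K [i] * (C.wprod K L)⁻¹) := by
    rw [hu, inv_mul_cancel_left]
  rw [e]
  have h' := C.acts_mul K (C.acts_inv K (C.acts_HT K (fun j => u ^ co chevD4 (rt n) j)))
    (C.acts_mul K (C.acts_mul K (C.acts_wprod K L) (C.acts_wprod K [i])) (C.acts_inv K (C.acts_wprod K L)))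
  rwa [inv_one, one_mul] at h'

/-- A monomial element carries the group of S into that of S'. -/
theorem acts_conj_U {g : GL chevD4.Idx K} {σ : Equiv.Perm (Rt chevD4)} (hg : C.Acts g σ)
    {S S' : Finset (Fin 24)} (h : ∀ n ∈ S, ∃ m ∈ S', σ (rt n) = rt m) {x : GL chevD4.Idx K}
    (hx : x ∈ U S K) : g * x * g⁻¹ ∈ U S' K := by
  refine C.conj_mem_US K hg ?_ hx
  rintro r ⟨n, hn, rfl⟩
  obtain ⟨m, hm, e⟩ := h n (Finset.mem_coe.1 hn)
  exact ⟨m, Finset.mem_coe.2 hm, e.symm⟩

theorem acts_X {g : GL chevD4.Idx K} {σ : Equiv.Perm (Rt chevD4)} (hg : C.Acts g σ) (n m : Fin 24)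
    (h : σ (rt n) = rt m) : ∃ e : Kˣ, ∀ t, g * X n t * g⁻¹ = X m ((e : K) * t) := by
  obtain ⟨e, he⟩ := hg (rt n)
  refine ⟨e, fun t => ?_⟩
  rw [X, he t, h]
  rfl

/-- An element normalises the group of S if the two root groups generating its rank one group do. -/
theorem phi_conj_U {n : Fin 24} {S : Finset (Fin 24)} (h1 : Stab n S) (h2 : Stab n.rev S)
    (A : Matrix.SpecialLinearGroup (Fin 2) K) {g : GL chevD4.Idx K} (hg : g ∈ U S K) :
    phi n A * g * (phi n A)⁻¹ ∈ U S K := by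
  have hnorm : ∀ r, Stab r S → ∀ t : K, X r t ∈ Subgroup.normalizer (U S K : Set (GL chevD4.Idx K)) := by
    intro r hr t
    rw [Subgroup.mem_normalizer_iff]
    intro x
    refine ⟨fun hx => by rw [X_inv]; exact conj_U hr t hx, fun hx => ?_⟩
    have := conj_U' hr t hx
    rw [← X_inv] at this
    simpa [mul_assoc] using this
  exact (Subgroup.mem_normalizer_iff.1 (phi_mem_of (hnorm n h1) (hnorm _ h2) A) g).1 hg

theorem nB_eq_wprod : (phi 14 (slN 1) : GL chevD4.Idx K) = C.wprod K [⟨1, by decide⟩] := by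
  rw [phi_N]
  simp [Core.wprod, Core.P, D4.p_eq]
  rfl

end Cfsg.Agent.Lib.D4Gauss
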